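import Cfsg.Agent.Lib.Transfer.PGroup
import Cfsg.Agent.Lib.Char.Complete
import Mathlib.GroupTheory.GroupAction.Quotient
import Mathlib.GroupTheory.PGroup

/-!
A normal `p`-subgroup `S` of `N` with a normal subgroup `P` such that `S ∖ P` is a single class
of `N`, where `N / S` is abelian of order `[S : P] - 1`: then `P` is central in `S` and has
exponent `p`.
-/

set_option autoImplicit false

open Subgroup
open scoped commutatorElement

namespace CfsgLib.OneNonVanish

universe u

variable {N : Type u} [Group N] [Finite N]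

/-- If all members of a conjugation invariant set have centralisers of order `c`, then the group
order divides `c` times the size of the set. -/
theorem card_dvd_mul_card (X : Set N) (c : ℕ) (hX : ∀ x ∈ X, ∀ g : N, g * x * g⁻¹ ∈ X)
    (hc : ∀ x ∈ X, Nat.card (centralizer ({x} : Set N)) = c) : Nat.card N ∣ c * Nat.card X := by
  classical
  let _ : MulAction N X :=
    { smul := fun g x => ⟨g * x * g⁻¹, hX x x.2 g⟩
      one_smul := fun x => Subtype.ext (by change (1 : N) * x * 1⁻¹ = x; simp)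
      mul_smul := fun g h x => Subtype.ext (by
        change g * h * x * (g * h)⁻¹ = g * (h * x * h⁻¹) * g⁻¹; group) }
  have := Fintype.ofFinite (Quotient (MulAction.orbitRel N X))
  rw [Nat.card_congr (MulAction.selfEquivSigmaOrbitsQuotientStabilizer N X), Nat.card_sigma,
    Finset.mul_sum]
  refine Finset.dvd_sum fun ω _ => dvd_of_eq ?_
  rw [← Subgroup.index_eq_card, ← Subgroup.card_mul_index (MulAction.stabilizer N ω.out)]
  refine congrArg (· * _) ?_
  rw [← hc _ ω.out.2]
  refine congrArg (fun H : Subgroup N => Nat.card H) (SetLike.ext fun g => ?_)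
  rw [MulAction.mem_stabilizer_iff, mem_centralizer_singleton_iff]
  constructor
  · intro h
    have := congrArg Subtype.val h
    change g * (ω.out : N) * g⁻¹ = ω.out at this
    exact mul_inv_eq_iff_eq_mul.mp this
  · intro h
    refine Subtype.ext ?_
    change g * (ω.out : N) * g⁻¹ = ω.out
    exact mul_inv_eq_iff_eq_mul.mpr h

omit [Finite N] in
theorem card_map_mk_mul (Y S : Subgroup N) [Y.Normal] [Finite N] (h : Y ≤ S) :
    Nat.card (S.map (QuotientGroup.mk' Y)) * Nat.card Y = Nat.card S := by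
  have h1 : (S.map (QuotientGroup.mk' Y)).index = S.index :=
    index_map_eq S (QuotientGroup.mk'_surjective Y) (by rwa [QuotientGroup.ker_mk'])
  have h2 := card_mul_index (S.map (QuotientGroup.mk' Y))
  rw [h1, ← index_eq_card] at h2
  have h3 := card_mul_index Y
  rw [← h2, ← card_mul_index S] at h3
  exact Nat.eq_of_mul_eq_mul_right (Nat.pos_of_ne_zero index_ne_zero_of_finite)
    (by rw [← h3]; ring)

/-- Numerical core: two divisors of `p ^ n - 1`, each dividing a smaller `p ^ d - 1`, do not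
multiply to `p ^ n - 1`. -/
theorem mul_ne_pow_sub_one {p n d d' e e' : ℕ} (hp : 2 ≤ p) (hd : 0 < d) (hdn : d < n) (hd' : 0 < d')
    (hdn' : d' < n) (he : e ∣ p ^ d - 1) (he' : e' ∣ p ^ d' - 1) : e * e' ≠ p ^ n - 1 := by
  intro h
  have key : ∀ {x k : ℕ}, x ∣ p ^ k - 1 → x ∣ p ^ n - 1 → 0 < k → k < n →
      ∃ a, 0 < a ∧ 2 * a ≤ n ∧ x ≤ p ^ a - 1 := by
    intro x k hx hxn hk hkn
    refine ⟨Nat.gcd k n, Nat.gcd_pos_of_pos_left _ hk, ?_, ?_⟩
    · obtain ⟨m, hm⟩ := Nat.gcd_dvd_right k n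
      have hlt : Nat.gcd k n < n := (Nat.le_of_dvd hk (Nat.gcd_dvd_left k n)).trans_lt hkn
      have hm2 : 2 ≤ m := by
        by_contra hcon
        interval_cases m <;> omega
      calc 2 * Nat.gcd k n ≤ m * Nat.gcd k n := Nat.mul_le_mul_right _ hm2
        _ = n := by rw [mul_comm]; exact hm.symm
    · refine Nat.le_of_dvd ?_ ((Nat.pow_sub_one_gcd_pow_sub_one p k n) ▸ Nat.dvd_gcd hx hxn)
      exact Nat.sub_pos_of_lt (Nat.one_lt_pow (Nat.gcd_pos_of_pos_left _ hk).ne' hp)
  obtain ⟨a, ha, han, hea⟩ := key he (h ▸ dvd_mul_right e e') hd hdn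
  obtain ⟨b, hb, hbn, heb⟩ := key he' (h ▸ dvd_mul_left e' e) hd' hdn'
  have h1 : e * e' ≤ (p ^ a - 1) * (p ^ b - 1) := Nat.mul_le_mul hea heb
  have h2 : (p ^ a - 1) * (p ^ b - 1) < p ^ (a + b) - 1 := by
    have hpa : 2 ≤ p ^ a := Nat.one_lt_pow ha.ne' hp
    have hpb : 2 ≤ p ^ b := Nat.one_lt_pow hb.ne' hp
    obtain ⟨u, hu⟩ := Nat.exists_eq_add_of_le hpa
    obtain ⟨v, hv⟩ := Nat.exists_eq_add_of_le hpb
    rw [pow_add, hu, hv, show 2 + u - 1 = 1 + u by omega, show 2 + v - 1 = 1 + v by omega]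
    have : (2 + u) * (2 + v) = (1 + u) * (1 + v) + u + v + 3 := by ring
    omega
  have h3 : p ^ (a + b) ≤ p ^ n := Nat.pow_le_pow_right (by omega) (by omega)
  omega

/-- The hypotheses. -/
structure ClassData (p n : ℕ) (S P : Subgroup N) (g : N) : Prop where
  normal : S.Normal
  normalP : P.Normal
  le : P ≤ S
  pgroup : IsPGroup p S
  comm : commutator N ≤ S
  card_eq : Nat.card S = p ^ n * Nat.card P
  index_eq : S.index = p ^ n - 1
  mem : g ∈ S
  notMem : g ∉ P
  conj : ∀ x ∈ S, x ∉ P → IsConj g x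
  quot : ∀ a ∈ S, ∀ b ∈ S, ⁅a, b⁆ ∈ P
  pow : ∀ s ∈ S, s ^ p ∈ P

namespace ClassData

variable {p n : ℕ} [hp : Fact p.Prime] {S P : Subgroup N} {g : N}

omit [Finite N] hp in
theorem n_pos [Finite N] (h : ClassData p n S P g) : 0 < n := by
  by_contra hn
  have h1 := h.card_eq
  rw [show n = 0 by omega, pow_zero, one_mul] at h1
  exact h.notMem (eq_of_le_of_card_ge h.le h1.le ▸ h.mem)

theorem card_class (h : ClassData p n S P g) :
    Nat.card {x : N // IsConj g x} = (p ^ n - 1) * Nat.card P := by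
  have := h.normal
  have := h.normalP
  classical
  have := Fintype.ofFinite N
  have e : Nat.card {x : N // IsConj g x} + Nat.card P = Nat.card S := by
    rw [← Nat.card_sum]
    refine (Nat.card_eq_of_bijective (fun v => Sum.elim
      (fun x : {x : N // IsConj g x} => (⟨x.1, by
        obtain ⟨c, hc⟩ := isConj_iff.mp x.2
        rw [← hc]; exact ‹S.Normal›.conj_mem g h.mem c⟩ : S))
      (fun x : P => ⟨x.1, h.le x.2⟩) v) ⟨?_, ?_⟩)
    · have hne : ∀ (x : {x : N // IsConj g x}) (y : P), (x : N) ≠ y := fun x y e => by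
        obtain ⟨c, hc⟩ := isConj_iff.mp x.2
        refine h.notMem ?_
        have := ‹P.Normal›.conj_mem _ (hc.trans e ▸ y.2) c⁻¹
        simpa [mul_assoc] using this
      rintro (x | x) (y | y) e
      · exact congrArg Sum.inl (Subtype.ext (by simpa using congrArg Subtype.val e))
      · exact absurd (congrArg Subtype.val e) (hne x y)
      · exact absurd (congrArg Subtype.val e).symm (hne y x)
      · exact congrArg Sum.inr (Subtype.ext (by simpa using congrArg Subtype.val e))
    · rintro ⟨x, hx⟩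
      by_cases hxP : x ∈ P
      · exact ⟨Sum.inr ⟨x, hxP⟩, rfl⟩
      · exact ⟨Sum.inl ⟨x, h.conj x hx hxP⟩, rfl⟩
  rw [h.card_eq] at e
  rw [Nat.sub_mul, one_mul]
  omega

theorem card_centralizer (h : ClassData p n S P g) :
    Nat.card (centralizer ({g} : Set N)) = p ^ n := by
  have h1 := CfsgLib.Char.card_isConj_mul_card_centralizer g
  rw [h.card_class, ← card_mul_index S, h.card_eq, h.index_eq] at h1
  have hq : 0 < p ^ n - 1 := Nat.sub_pos_of_lt (Nat.one_lt_pow h.n_pos.ne' hp.out.one_lt)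
  exact Nat.eq_of_mul_eq_mul_left (Nat.mul_pos hq Nat.card_pos) (h1.trans (by ring))

theorem centralizer_le (h : ClassData p n S P g) : centralizer ({g} : Set N) ≤ S := by
  have := h.normal
  intro x hx
  rw [← QuotientGroup.eq_one_iff, ← orderOf_eq_one_iff]
  have h1 : orderOf (x : N ⧸ S) ∣ p ^ n := by
    refine (orderOf_map_dvd (QuotientGroup.mk' S) x).trans ?_
    rw [← h.card_centralizer]
    exact Subgroup.orderOf_dvd_natCard _ hx
  have h2 : orderOf (x : N ⧸ S) ∣ p ^ n - 1 := by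
    rw [← h.index_eq, index_eq_card]; exact orderOf_dvd_natCard _
  have hpos : 1 ≤ p ^ n := Nat.one_le_pow _ _ hp.out.pos
  have := Nat.dvd_sub h1 h2
  rw [show p ^ n - (p ^ n - 1) = 1 by omega] at this
  exact Nat.dvd_one.mp this

theorem exists_conj (h : ClassData p n S P g) {w : N} (hw : w ∈ P) :
    ∃ s ∈ S, s * g * s⁻¹ = g * w := by
  have := h.normalP
  have h1 := CfsgLib.Char.card_isConj_mul_card_centralizer (⟨g, h.mem⟩ : S)
  have hC : Nat.card (centralizer ({⟨g, h.mem⟩} : Set S)) = p ^ n := by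
    rw [← h.card_centralizer, ← Nat.card_congr
      (subgroupOfEquivOfLe h.centralizer_le).toEquiv]
    refine congrArg (fun H : Subgroup S => Nat.card H) (SetLike.ext fun x => ?_)
    simp only [mem_subgroupOf, mem_centralizer_singleton_iff, Subtype.ext_iff,
      Subgroup.coe_mul]
  rw [hC, h.card_eq, mul_comm] at h1
  have hcls : Nat.card {x : S // IsConj (⟨g, h.mem⟩ : S) x} = Nat.card P :=
    Nat.eq_of_mul_eq_mul_left (pow_pos hp.out.pos n) h1
  have hmem : ∀ x : {x : S // IsConj (⟨g, h.mem⟩ : S) x}, g⁻¹ * ((x : S) : N) ∈ P := by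
    intro x
    obtain ⟨c, hc⟩ := isConj_iff.mp x.2
    have := congrArg Subtype.val hc
    simp only [Subgroup.coe_mul, Subgroup.coe_inv] at this
    rw [← this]
    have h2 := h.quot g⁻¹ (inv_mem h.mem) c c.2
    simpa [commutatorElement_def, mul_assoc] using h2
  let φ : {x : S // IsConj (⟨g, h.mem⟩ : S) x} → P :=
    fun x => ⟨g⁻¹ * ((x.1 : S) : N), hmem x⟩
  obtain ⟨x, hx⟩ := ((Nat.bijective_iff_injective_and_card φ).mpr ⟨fun a b e => by
      have e' : g⁻¹ * ((a.1 : S) : N) = g⁻¹ * ((b.1 : S) : N) := congrArg Subtype.val e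
      exact Subtype.ext (Subtype.ext (mul_left_cancel e')), hcls⟩).2 ⟨w, hw⟩
  obtain ⟨c, hc⟩ := isConj_iff.mp x.2
  refine ⟨c, c.2, ?_⟩
  have h3 := congrArg Subtype.val hc
  simp only [Subgroup.coe_mul, Subgroup.coe_inv] at h3
  have h4 : g⁻¹ * ((x.1 : S) : N) = w := congrArg Subtype.val hx
  rw [h3, ← h4, mul_inv_cancel_left]

theorem eq_commutator (h : ClassData p n S P g) : P = ⁅S, S⁆ := by
  refine le_antisymm (fun w hw => ?_) (commutator_le.mpr h.quot)
  obtain ⟨s, hs, e⟩ := h.exists_conj hw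
  have := commutator_mem_commutator (inv_mem h.mem) hs
  have e2 : ⁅g⁻¹, s⁆ = w := by
    calc ⁅g⁻¹, s⁆ = g⁻¹ * (s * g * s⁻¹) := by rw [commutatorElement_def]; group
      _ = w := by rw [e, inv_mul_cancel_left]
  exact e2 ▸ this

theorem quotient (h : ClassData p n S P g) (Y : Subgroup N) [Y.Normal] (hY : Y ≤ P) :
    ClassData p n (S.map (QuotientGroup.mk' Y)) (P.map (QuotientGroup.mk' Y))
      (QuotientGroup.mk' Y g) := by
  have hker : (QuotientGroup.mk' Y).ker ≤ P := by rwa [QuotientGroup.ker_mk']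
  refine
    { normal := h.normal.map _ (QuotientGroup.mk'_surjective Y)
      normalP := h.normalP.map _ (QuotientGroup.mk'_surjective Y)
      le := map_mono h.le
      pgroup := h.pgroup.map _
      comm := ?_
      card_eq := ?_
      index_eq := ?_
      mem := mem_map_of_mem _ h.mem
      notMem := fun hg => h.notMem ?_
      conj := ?_
      quot := ?_
      pow := ?_ }
  · rw [commutator_def, ← map_top_of_surjective _ (QuotientGroup.mk'_surjective Y),
      ← map_commutator]
    exact map_mono h.comm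
  · refine Nat.eq_of_mul_eq_mul_right (Nat.card_pos (α := Y)) ?_
    rw [card_map_mk_mul Y S (hY.trans h.le), mul_assoc, card_map_mk_mul Y P hY, h.card_eq]
  · rw [index_map_eq S (QuotientGroup.mk'_surjective Y) (hker.trans h.le), h.index_eq]
  · obtain ⟨w, hw, e⟩ := hg
    have : w⁻¹ * g ∈ P := hker (by rw [MonoidHom.mem_ker, map_mul, map_inv, e, inv_mul_cancel])
    simpa using mul_mem hw this
  · rintro _ ⟨x, hx, rfl⟩ hx'
    exact (QuotientGroup.mk' Y).map_isConj (h.conj x hx fun e => hx' (mem_map_of_mem _ e))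
  · rintro _ ⟨a, ha, rfl⟩ _ ⟨b, hb, rfl⟩
    rw [← map_commutatorElement]; exact mem_map_of_mem _ (h.quot a ha b hb)
  · rintro _ ⟨a, ha, rfl⟩
    rw [← map_pow]; exact mem_map_of_mem _ (h.pow a ha)

theorem card_lt_of_central (h : ClassData p n S P g) {W : Subgroup N} (hW : W ≤ P)
    (hWS : W ≤ centralizer (S : Set N)) : Nat.card W < p ^ n := by
  rw [← h.card_centralizer]
  have hle : W ≤ centralizer ({g} : Set N) :=
    hWS.trans (Subgroup.centralizer_le (Set.singleton_subset_iff.mpr h.mem))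
  refine lt_of_le_of_ne (card_le_of_le hle) fun e => h.notMem (hW ?_)
  rw [eq_of_le_of_card_ge hle e.ge]
  exact mem_centralizer_singleton_iff.mpr rfl

theorem le_centralizer_core (h : ClassData p n S P g) (hne : ⁅P, S⁆ ≠ ⊥)
    (hmin : ∀ X : Subgroup N, X.Normal → X ≤ ⁅P, S⁆ → X = ⊥ ∨ X = ⁅P, S⁆) : False := by
  have := h.normal
  have := h.normalP
  have hP1P : ⁅P, S⁆ ≤ P := commutator_le_left _ _
  -- the commutator subgroup is central in `S`
  have hcent : ⁅P, S⁆ ≤ centralizer (S : Set N) := by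
    rcases hmin (⁅P, S⁆ ⊓ centralizer (S : Set N)) inferInstance inf_le_left with e | e
    · exfalso
      have : Group.IsNilpotent S := h.pgroup.isNilpotent
      have h1 : (⁅P, S⁆.subgroupOf S) ≠ ⊥ := fun e1 => hne (by
        rw [subgroupOf_eq_bot] at e1
        exact disjoint_self.mp (e1.mono_right (hP1P.trans h.le)))
      obtain ⟨z, hz, hz1⟩ := (Subgroup.bot_or_exists_ne_one _).resolve_left
        (CfsgLib.Transfer.inf_center_ne_bot h1)
      have : (z : N) ∈ (⊥ : Subgroup N) := e ▸ ⟨hz.1, fun s hs => congrArg Subtype.val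
        (mem_center_iff.mp hz.2 ⟨s, hs⟩)⟩
      exact hz1 (Subtype.ext (mem_bot.mp this))
    · exact e ▸ inf_le_right
  set P1 := ⁅P, S⁆ with hP1
  have hcomm : ∀ x ∈ P, ∀ s ∈ S, ⁅x, s⁆ ∈ P1 := fun x hx s hs => commutator_mem_commutator hx hs
  have hcentC : ∀ z ∈ P1, ∀ s ∈ S, s * z = z * s := fun z hz s hs => hcent hz s hs
  set A := P ⊓ centralizer (S : Set N) with hA
  have hAP : A < P := lt_of_le_of_ne inf_le_left fun e => hne (by
    rw [hP1, commutator_eq_bot_iff_le_centralizer]; exact e ▸ inf_le_right)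
  obtain ⟨B, hB⟩ := (Set.toFinite {X : Subgroup N | X.Normal ∧ A < X ∧ X ≤ P}).exists_minimal
    ⟨P, h.normalP, hAP, le_rfl⟩
  obtain ⟨hBn, hAB, hBP⟩ := hB.1
  have hP1A : P1 ≤ A := le_inf hP1P hcent
  let π := QuotientGroup.mk' A
  have hcommA : ∀ a b : N, π a * π b = π b * π a ↔ ⁅a, b⁆ ∈ A := fun a b => by
    rw [← commutatorElement_eq_one_iff_mul_comm, ← map_commutatorElement]
    exact QuotientGroup.eq_one_iff _
  -- an element fixing a coset of `B / A` fixes all of them
  have hfix : ∀ m x, x ∈ B → x ∉ A → π m * π x = π x * π m → ∀ y ∈ B, π m * π y = π y * π m := by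
    intro m x hx hxA e y hy
    let F : Subgroup N := B ⊓ (centralizer ({π m} : Set (N ⧸ A))).comap π
    have hFn : F.Normal := by
      refine ⟨fun f hf c => ⟨hBn.conj_mem f hf.1 c, mem_comap.mpr (mem_centralizer_singleton_iff.mpr ?_)⟩⟩
      have hf2 := mem_centralizer_singleton_iff.mp (mem_comap.mp hf.2)
      set f' := c * f * c⁻¹ with hf'
      set s := m⁻¹ * (c * m * c⁻¹) with hs
      have hsS : s ∈ S := h.comm (by
        have := commutator_mem_commutator (mem_top m⁻¹) (mem_top c)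
        rw [← commutator_def] at this
        simpa [commutatorElement_def, hs, mul_assoc] using this)
      have h1 : π f' * π (c * m * c⁻¹) = π (c * m * c⁻¹) * π f' := by
        simp only [hf', map_mul, map_inv]
        calc π c * π f * (π c)⁻¹ * (π c * π m * (π c)⁻¹) = π c * (π f * π m) * (π c)⁻¹ := by group
          _ = π c * (π m * π f) * (π c)⁻¹ := by rw [hf2]
          _ = _ := by group
      have h2 : π f' * π s = π s * π f' :=
        (hcommA _ _).mpr (hP1A (hcomm _ (hBP (hBn.conj_mem f hf.1 c)) s hsS))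
      have hm : π m = π (c * m * c⁻¹) * (π s)⁻¹ := by
        rw [← map_inv, ← map_mul]; congr 1; rw [hs]; group
      rw [hm, ← mul_assoc, h1, mul_assoc, (Commute.inv_right h2).eq, ← mul_assoc]
    have hAF : A ≤ F := fun a ha => ⟨hAB.le ha, mem_comap.mpr (mem_centralizer_singleton_iff.mpr (by
      rw [show π a = 1 from (QuotientGroup.eq_one_iff a).mpr ha,
        one_mul, mul_one]))⟩
    have hxF : x ∈ F := ⟨hx, mem_comap.mpr (mem_centralizer_singleton_iff.mpr e.symm)⟩
    have hBF : B ≤ F := hB.2 ⟨hFn, lt_of_le_of_ne hAF (fun e' => hxA (e' ▸ hxF)),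
      inf_le_left.trans hBP⟩ inf_le_left
    exact (mem_centralizer_singleton_iff.mp (mem_comap.mp (hBF hy).2)).symm
  obtain ⟨b, hb, hbA⟩ := SetLike.exists_of_lt hAB
  have hbP := hBP hb
  let L : Subgroup N := (centralizer ({π b} : Set (N ⧸ A))).comap π
  have hSL : S ≤ L := fun s hs => mem_comap.mpr (mem_centralizer_singleton_iff.mpr
    ((hcommA b s).mpr (hP1A (hcomm b hbP s hs))).symm)
  -- the index of `L`
  set Bq := B.map π
  obtain ⟨d, hd⟩ := IsPGroup.iff_card.mp ((h.pgroup.to_le (hBP.trans h.le)).map π)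
  have hL : L.index ∣ p ^ d - 1 := by
    have hcent' : ∀ z ∈ ((Bq : Set (N ⧸ A)) \ {1}),
        Nat.card (centralizer ({z} : Set (N ⧸ A))) = Nat.card (centralizer ({π b} : Set (N ⧸ A))) := by
      rintro _ ⟨⟨x, hx, rfl⟩, hx1⟩
      have hxA : x ∉ A := fun e => hx1 ((QuotientGroup.eq_one_iff x).mpr e)
      refine congrArg (fun H : Subgroup (N ⧸ A) => Nat.card H) (SetLike.ext fun z => ?_)
      obtain ⟨m, rfl⟩ := QuotientGroup.mk'_surjective A z
      simp only [mem_centralizer_singleton_iff]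
      exact ⟨fun e => hfix m x hx hxA e b hb, fun e => hfix m b hb hbA e x hx⟩
    have h1 := card_dvd_mul_card ((Bq : Set (N ⧸ A)) \ {1}) _ (fun z hz c => by
      refine ⟨(hBn.map π (QuotientGroup.mk'_surjective A)).conj_mem z hz.1 c, fun e => hz.2 ?_⟩
      rw [Set.mem_singleton_iff, conj_eq_one_iff] at e
      exact e) hcent'
    rw [← card_mul_index (centralizer ({π b} : Set (N ⧸ A))),
      Nat.card_coe_set_eq, Set.ncard_sdiff (by simp [one_mem]), Set.ncard_singleton,
      ← Nat.card_coe_set_eq] at h1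
    have h2 := Nat.dvd_of_mul_dvd_mul_left Nat.card_pos h1
    rw [show Nat.card ((Bq : Set (N ⧸ A))) = p ^ d from hd] at h2
    change ((centralizer ({π b} : Set (N ⧸ A))).comap π).index ∣ _
    rwa [index_comap_of_surjective _ (QuotientGroup.mk'_surjective A)]
  have hdpos : 0 < d := by
    by_contra h0
    rw [show d = 0 by omega, pow_zero] at hd
    have hbq : π b ∈ B.map π := mem_map_of_mem π hb
    rw [eq_bot_of_card_eq _ hd, mem_bot] at hbq
    exact hbA ((QuotientGroup.eq_one_iff b).mp hbq)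
  have hdn : d < n := by
    refine (Nat.pow_lt_pow_iff_right hp.out.one_lt).mp ?_
    rw [← hd]
    have hq := h.quotient P1 hP1P
    have h1 := hq.card_lt_of_central (W := P.map (QuotientGroup.mk' P1)) le_rfl (by
      rintro _ ⟨x, hx, rfl⟩ _ ⟨s, hs, rfl⟩
      refine (commutatorElement_eq_one_iff_mul_comm.mp ?_).symm
      rw [← map_commutatorElement]
      exact (QuotientGroup.eq_one_iff _).mpr (hcomm x hx s hs))
    refine lt_of_le_of_lt ?_ h1
    refine Nat.le_of_mul_le_mul_right ?_ (Nat.card_pos (α := A))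
    rw [card_map_mk_mul A B hAB.le]
    refine (card_le_of_le hBP).trans ?_
    rw [← card_map_mk_mul P1 P hP1P]
    exact Nat.mul_le_mul_left _ (card_le_of_le hP1A)
  -- the centraliser of `b` in `S`
  set K := S ⊓ centralizer ({b} : Set N) with hK
  have hPK : P ≤ K := by
    rw [h.eq_commutator]
    refine commutator_le.mpr fun s hs t ht => Subgroup.mem_inf.mpr
      ⟨mul_mem (mul_mem (mul_mem hs ht) (inv_mem hs)) (inv_mem ht), ?_⟩
    rw [mem_centralizer_singleton_iff]
    have hn : ∀ r ∈ S, ∃ z ∈ P1, b * r * b⁻¹ = r * z := fun r hr => ⟨r⁻¹ * (b * r * b⁻¹), by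
      have := hcomm b hbP r hr
      have h1 : r⁻¹ * ⁅b, r⁆ * r⁻¹⁻¹ ∈ P1 := (inferInstance : P1.Normal).conj_mem _ this r⁻¹
      simpa [commutatorElement_def, mul_assoc] using h1, by group⟩
    obtain ⟨u, hu, eu⟩ := hn s hs
    obtain ⟨v, hv, ev⟩ := hn t ht
    have key : b * ⁅s, t⁆ * b⁻¹ = ⁅s, t⁆ := by
      calc b * ⁅s, t⁆ * b⁻¹ = ⁅b * s * b⁻¹, b * t * b⁻¹⁆ := by simp only [commutatorElement_def]; group
        _ = (s * u) * (t * v) * (s * u)⁻¹ * (t * v)⁻¹ := by rw [eu, ev, commutatorElement_def]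
        _ = s * (u * t) * v * u⁻¹ * s⁻¹ * v⁻¹ * t⁻¹ := by group
        _ = s * t * (u * v * u⁻¹) * s⁻¹ * v⁻¹ * t⁻¹ := by rw [← hcentC u hu t ht]; group
        _ = s * t * (v * s⁻¹) * v⁻¹ * t⁻¹ := by
          rw [hcentC v hv u (h.le (hP1P hu)), mul_inv_cancel_right]; group
        _ = ⁅s, t⁆ := by rw [← hcentC v hv s⁻¹ (inv_mem hs), commutatorElement_def]; group
    exact (mul_inv_eq_iff_eq_mul.mp key).symm
  have hKS : K ≠ S := fun e => hbA ⟨hbP, fun s hs => by
    have hsK : s ∈ K := e.symm ▸ hs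
    exact mem_centralizer_singleton_iff.mp hsK.2⟩
  have hSK : Nat.card S ≤ Nat.card K * Nat.card P1 := by
    have h1 := CfsgLib.Char.card_isConj_mul_card_centralizer (⟨b, h.le hbP⟩ : S)
    have hC : Nat.card (centralizer ({⟨b, h.le hbP⟩} : Set S)) = Nat.card K := by
      rw [← Nat.card_congr (subgroupOfEquivOfLe (inf_le_left : K ≤ S)).toEquiv]
      refine congrArg (fun H : Subgroup S => Nat.card H) (SetLike.ext fun x => ?_)
      simp only [mem_subgroupOf, hK, mem_inf, SetLike.coe_mem, true_and,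
        mem_centralizer_singleton_iff, Subtype.ext_iff, Subgroup.coe_mul]
    rw [← h1, hC, mul_comm]
    refine Nat.mul_le_mul_left _ (Nat.card_le_card_of_injective
      (fun x => (⟨b⁻¹ * ((x.1 : S) : N), ?_⟩ : P1))
      fun x y e => Subtype.ext (Subtype.ext (mul_left_cancel (congrArg Subtype.val e))))
    obtain ⟨c, hc⟩ := isConj_iff.mp x.2
    have e := congrArg Subtype.val hc
    simp only [Subgroup.coe_mul, Subgroup.coe_inv] at e
    rw [← e]
    have := hcomm b⁻¹ (inv_mem hbP) c c.2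
    simpa [commutatorElement_def, mul_assoc] using this
  have hP1q : Nat.card P1 < p ^ n := h.card_lt_of_central hP1P hcent
  -- in `N / P`
  let ρ := QuotientGroup.mk' P
  have hq := h.quotient P le_rfl
  have hPbot : P.map ρ = ⊥ := QuotientGroup.map_mk'_self P
  obtain ⟨d', hd'⟩ := IsPGroup.iff_card.mp ((h.pgroup.to_le (inf_le_left : K ≤ S)).map ρ)
  have hKcard := card_map_mk_mul P K hPK
  have hScard := card_map_mk_mul P S h.le
  rw [hd'] at hKcard
  have hd'pos : 0 < d' := by
    by_contra h0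
    rw [show d' = 0 by omega, pow_zero, one_mul] at hKcard
    rw [h.card_eq, ← hKcard, mul_comm] at hSK
    exact absurd (Nat.le_of_mul_le_mul_left hSK Nat.card_pos) (not_le.mpr hP1q)
  have hd'n : d' < n := by
    refine (Nat.pow_lt_pow_iff_right hp.out.one_lt).mp (Nat.lt_of_mul_lt_mul_right (a := Nat.card P) ?_)
    rw [hKcard, ← h.card_eq]
    exact lt_of_le_of_ne (card_le_of_le inf_le_left) fun e =>
      hKS (eq_of_le_of_card_ge inf_le_left e.ge)
  have hrel : S.relIndex L ∣ p ^ d' - 1 := by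
    set Lq := L.map ρ
    set Kq := K.map ρ
    have hKL : ∀ m ∈ Lq, ∀ z ∈ Kq, m * z * m⁻¹ ∈ Kq := by
      rintro _ ⟨m, hm, rfl⟩ _ ⟨s, hs, rfl⟩
      rw [← map_inv, ← map_mul, ← map_mul]
      refine mem_map_of_mem ρ (Subgroup.mem_inf.mpr ⟨‹S.Normal›.conj_mem s hs.1 m, ?_⟩)
      rw [mem_centralizer_singleton_iff]
      have hm' := (mem_centralizer_singleton_iff.mp (mem_comap.mp hm))
      have ha : b⁻¹ * (m⁻¹ * b * m) ∈ A := (QuotientGroup.eq_one_iff _).mp (by
        change π (b⁻¹ * (m⁻¹ * b * m)) = 1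
        simp only [map_mul, map_inv]
        rw [mul_assoc (π m)⁻¹, ← hm', inv_mul_cancel_left, inv_mul_cancel])
      obtain ⟨a, haeq⟩ : ∃ a, a = b⁻¹ * (m⁻¹ * b * m) := ⟨_, rfl⟩
      rw [← haeq] at ha
      have hb' : m⁻¹ * b * m = b * a := by rw [haeq, mul_inv_cancel_left]
      have hcom : s * (b * a) = (b * a) * s := by
        rw [← mul_assoc, mem_centralizer_singleton_iff.mp hs.2, mul_assoc, ha.2 s hs.1, mul_assoc]
      calc m * s * m⁻¹ * b = m * (s * (m⁻¹ * b * m)) * m⁻¹ := by group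
        _ = m * ((m⁻¹ * b * m) * s) * m⁻¹ := by rw [hb', hcom]
        _ = b * (m * s * m⁻¹) := by group
    have hSLq : S.map ρ ≤ Lq := map_mono hSL
    have hcent' : ∀ z ∈ ({z | (z : N ⧸ P) ∈ Kq ∧ z ≠ 1} : Set Lq),
        Nat.card (centralizer ({z} : Set Lq)) = p ^ n := by
      rintro z ⟨hzK, hz1⟩
      have hzS : (z : N ⧸ P) ∈ S.map ρ := map_mono inf_le_left hzK
      have hzP : (z : N ⧸ P) ∉ P.map ρ := by
        rw [hPbot, mem_bot]; exact fun e => hz1 (Subtype.ext e)
      have hd2 : ClassData p n (S.map ρ) (P.map ρ) (z : N ⧸ P) :=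
        { hq with mem := hzS, notMem := hzP,
                  conj := fun x hx hx' => (hq.conj _ hzS hzP).symm.trans (hq.conj x hx hx') }
      rw [← hd2.card_centralizer, ← Nat.card_congr
        (subgroupOfEquivOfLe (hd2.centralizer_le.trans hSLq)).toEquiv]
      refine congrArg (fun H : Subgroup Lq => Nat.card H) (SetLike.ext fun x => ?_)
      simp only [mem_subgroupOf, mem_centralizer_singleton_iff, Subtype.ext_iff,
        Subgroup.coe_mul]
    have h1 := card_dvd_mul_card ({z | (z : N ⧸ P) ∈ Kq ∧ z ≠ 1} : Set Lq) (p ^ n) (fun z hz m =>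
      ⟨hKL m m.2 z hz.1, fun e => hz.2 (conj_eq_one_iff.mp e)⟩) hcent'
    have hKqL : Kq ≤ Lq := map_mono (inf_le_left.trans hSL)
    have hX : Nat.card ({z | (z : N ⧸ P) ∈ Kq ∧ z ≠ 1} : Set Lq) = p ^ d' - 1 := by
      have e : ({z | (z : N ⧸ P) ∈ Kq ∧ z ≠ 1} : Set Lq) = ((Kq.subgroupOf Lq : Subgroup Lq) : Set Lq) \ {1} := by
        ext z; simp [mem_subgroupOf]
      rw [e, Nat.card_coe_set_eq, Set.ncard_sdiff (by simp [one_mem]), Set.ncard_singleton,
        ← Nat.card_coe_set_eq]
      exact congrArg (· - 1) ((Nat.card_congr (subgroupOfEquivOfLe hKqL).toEquiv).trans hd')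
    rw [hX] at h1
    have hLcard : Nat.card Lq = p ^ n * S.relIndex L := by
      refine Nat.eq_of_mul_eq_mul_right (Nat.card_pos (α := P)) ?_
      rw [card_map_mk_mul P L (h.le.trans hSL), ← relIndex_bot_left,
        ← relIndex_mul_relIndex _ _ _ bot_le hSL, relIndex_bot_left, h.card_eq]
      ring
    rw [hLcard] at h1
    exact Nat.dvd_of_mul_dvd_mul_left (pow_pos hp.out.pos n) h1
  refine mul_ne_pow_sub_one hp.out.two_le hd'pos hd'n hdpos hdn hrel hL ?_
  rw [relIndex_mul_index hSL, h.index_eq]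

/-- `P` is central in `S`. -/
theorem le_centralizer (h : ClassData p n S P g) : P ≤ centralizer (S : Set N) := by
  have := h.normal
  have := h.normalP
  rw [← commutator_eq_bot_iff_le_centralizer]
  by_contra hne
  obtain ⟨Y, hY⟩ := (Set.toFinite {X : Subgroup N | X.Normal ∧ X < ⁅P, S⁆}).exists_maximal
    ⟨⊥, inferInstance, bot_lt_iff_ne_bot.mpr hne⟩
  have := hY.1.1
  have hq := h.quotient Y (hY.1.2.le.trans (commutator_le_left _ _))
  refine hq.le_centralizer_core ?_ ?_
  · rw [← map_commutator]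
    intro e
    rw [Subgroup.map_eq_bot_iff, QuotientGroup.ker_mk'] at e
    exact hY.1.2.not_ge e
  · intro X hX hXle
    rw [← map_commutator] at hXle ⊢
    have hYX : Y ≤ X.comap (QuotientGroup.mk' Y) :=
      (QuotientGroup.ker_mk' Y).symm.le.trans (ker_le_comap _ _)
    have hXP : X.comap (QuotientGroup.mk' Y) ≤ ⁅P, S⁆ := by
      refine (comap_mono hXle).trans ?_
      rw [comap_map_eq, QuotientGroup.ker_mk']
      exact sup_le le_rfl hY.1.2.le
    by_cases e : X.comap (QuotientGroup.mk' Y) = ⁅P, S⁆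
    · exact Or.inr (by rw [← e, map_comap_eq_self_of_surjective (QuotientGroup.mk'_surjective Y)])
    · refine Or.inl ?_
      have hle : X.comap (QuotientGroup.mk' Y) ≤ Y :=
        hY.2 ⟨hX.comap _, lt_of_le_of_ne hXP e⟩ hYX
      rw [← map_comap_eq_self_of_surjective (QuotientGroup.mk'_surjective Y) X, Subgroup.map_eq_bot_iff,
        QuotientGroup.ker_mk']
      exact hle

/-- `P` has exponent `p`. -/
theorem pow_eq_one (h : ClassData p n S P g) {w : N} (hw : w ∈ P) : w ^ p = 1 := by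
  have hc := h.le_centralizer
  let W : Subgroup N :=
    { carrier := {w | w ∈ P ∧ w ^ p = 1}
      one_mem' := ⟨one_mem P, one_pow _⟩
      mul_mem' := fun {a b} ha hb => ⟨mul_mem ha.1 hb.1, by
        rw [(show Commute a b from (hc ha.1 b (h.le hb.1)).symm).mul_pow, ha.2, hb.2, one_mul]⟩
      inv_mem' := fun {a} ha => ⟨inv_mem ha.1, by rw [inv_pow, ha.2, inv_one]⟩ }
  suffices P ≤ W from (this hw).2
  rw [h.eq_commutator]
  refine commutator_le.mpr fun a ha b hb => ⟨h.quot a ha b hb, ?_⟩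
  have key : ∀ k : ℕ, ⁅a ^ k, b⁆ = ⁅a, b⁆ ^ k := by
    intro k
    induction k with
    | zero => simp
    | succ k ih =>
      have hz : a * ⁅a, b⁆ ^ k = ⁅a, b⁆ ^ k * a :=
        hc (pow_mem (h.quot a ha b hb) k) a ha
      calc ⁅a ^ (k + 1), b⁆ = a * ⁅a ^ k, b⁆ * a⁻¹ * ⁅a, b⁆ := by
            simp only [commutatorElement_def, pow_succ']; group
        _ = ⁅a, b⁆ ^ (k + 1) := by rw [ih, hz, mul_inv_cancel_right, pow_succ]
  rw [← key, commutatorElement_eq_one_iff_mul_comm]
  exact (hc (h.pow a ha) b hb).symm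

end ClassData

end CfsgLib.OneNonVanish
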