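import Cfsg.Agent.Lib.Solvable.CoprimeMulAction
import Mathlib.GroupTheory.NoncommPiCoprod
import Mathlib.GroupTheory.Nilpotent
import Mathlib.GroupTheory.Solvable

/-!
Gorenstein and Herstein: a finite group with a fixed-point-free automorphism of order dividing
four is solvable.  The proof is by counting the elements inverted by the square of the automorphism.
-/

set_option autoImplicit false

open Subgroup

namespace CfsgLib.OneNonVanish

universe u

variable {M : Type u} [Group M] [Finite M]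

theorem odd_card_of_fpf_four (σ : MulAut M) (hσ : σ ^ 4 = 1) (hfpf : ∀ m : M, σ m = m → m = 1) :
    ¬ 2 ∣ Nat.card M := by
  intro h2
  have hp : IsPGroup 2 (Subgroup.zpowers σ) := by
    intro y
    obtain ⟨k, hk⟩ := mem_zpowers_iff.mp y.2
    exact ⟨2, Subtype.ext (by
      rw [SubmonoidClass.coe_pow, OneMemClass.coe_one, ← hk, show (2 : ℕ) ^ 2 = 4 from rfl,
        ← zpow_natCast, ← zpow_mul, mul_comm, zpow_mul, zpow_natCast, hσ, one_zpow])⟩
  obtain ⟨b, hb, hb1⟩ := hp.exists_fixed_point_of_prime_dvd_card_of_fixed_point M h2 (a := 1)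
    (fun s => map_one (s : MulAut M))
  exact hb1 (hfpf b (hb ⟨σ, mem_zpowers σ⟩)).symm

section

variable (σ : MulAut M)

/-- The fixed points of the square of `σ`. -/
def sqFix : Subgroup M where
  carrier := {m | σ (σ m) = m}
  one_mem' := by simp
  mul_mem' := fun {a b} ha hb => by
    simp only [Set.mem_ofPred_eq, map_mul] at *
    rw [ha, hb]
  inv_mem' := fun {a} ha => by
    simp only [Set.mem_ofPred_eq, map_inv] at *
    rw [ha]

theorem mem_sqFix {m : M} : m ∈ sqFix σ ↔ σ (σ m) = m := Iff.rfl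

/-- The elements inverted by the square of `σ`. -/
def sqInv : Set M := {m | σ (σ m) = m⁻¹}

theorem pow_mem_sqInv {m : M} (hm : m ∈ sqInv σ) (k : ℕ) : m ^ k ∈ sqInv σ := by
  change σ (σ (m ^ k)) = _
  rw [map_pow, map_pow, show σ (σ m) = m⁻¹ from hm, inv_pow]

variable {σ} (hσ : σ ^ 4 = 1) (hfpf : ∀ m : M, σ m = m → m = 1)

omit [Finite M] in
include hσ in
theorem iterate_four (m : M) : σ (σ (σ (σ m))) = m := by
  have h := congrArg (fun f : MulAut M => f m) hσ
  simpa [pow_succ] using h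

omit hσ

theorem sq_injective (hodd : ¬ 2 ∣ Nat.card M) {a b : M} (h : a ^ 2 = b ^ 2) : a = b := by
  have hc : (Nat.card M).Coprime 2 := ((Nat.prime_two.coprime_iff_not_dvd).2 hodd).symm
  exact (powCoprime hc).injective h

include hσ hfpf

theorem apply_of_mem_sqFix {m : M} (hm : m ∈ sqFix σ) : σ m = m⁻¹ := by
  have hsurj : Function.Surjective (fun y : M => y⁻¹ * σ y) :=
    Finite.injective_iff_surjective.mp fun a b h => by
      have h' : a⁻¹ * σ a = b⁻¹ * σ b := h
      have : σ (b * a⁻¹) = b * a⁻¹ := by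
        rw [map_mul, map_inv]
        calc σ b * (σ a)⁻¹ = b * (b⁻¹ * σ b) * (a * (a⁻¹ * σ a))⁻¹ := by group
          _ = b * a⁻¹ := by rw [h']; group
      exact (mul_inv_eq_one.mp (hfpf _ this)).symm
  obtain ⟨y, rfl⟩ := hsurj m
  have hm' : σ (σ (y⁻¹ * σ y)) = y⁻¹ * σ y := hm
  have hsq : (y⁻¹ * σ y * σ (y⁻¹ * σ y)) ^ 2 = 1 ^ 2 := by
    calc (y⁻¹ * σ y * σ (y⁻¹ * σ y)) ^ 2
        = y⁻¹ * σ y * σ (y⁻¹ * σ y) * (σ (σ (y⁻¹ * σ y)) * σ (σ (σ (y⁻¹ * σ y)))) := by
          rw [hm', pow_two]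
      _ = y⁻¹ * σ (σ (σ (σ y))) := by simp only [map_mul, map_inv]; group
      _ = 1 ^ 2 := by rw [iterate_four hσ, inv_mul_cancel, one_pow]
  have := sq_injective (odd_card_of_fpf_four σ hσ hfpf) hsq
  exact eq_inv_of_mul_eq_one_right this

theorem sqFix_comm {a b : M} (ha : a ∈ sqFix σ) (hb : b ∈ sqFix σ) : a * b = b * a := by
  have h := apply_of_mem_sqFix hσ hfpf ((sqFix σ).mul_mem ha hb)
  rw [map_mul, apply_of_mem_sqFix hσ hfpf ha, apply_of_mem_sqFix hσ hfpf hb, mul_inv_rev] at h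
  calc a * b = (b⁻¹ * a⁻¹)⁻¹ := by group
    _ = (a⁻¹ * b⁻¹)⁻¹ := by rw [h]
    _ = b * a := by group

theorem commute_apply {x : M} (hx : x ∈ sqInv σ) : Commute x (σ x) := by
  have hsurj : Function.Surjective (fun y : M => y⁻¹ * σ y) :=
    Finite.injective_iff_surjective.mp fun a b h => by
      have h' : a⁻¹ * σ a = b⁻¹ * σ b := h
      have : σ (b * a⁻¹) = b * a⁻¹ := by
        rw [map_mul, map_inv]
        calc σ b * (σ a)⁻¹ = b * (b⁻¹ * σ b) * (a * (a⁻¹ * σ a))⁻¹ := by group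
          _ = b * a⁻¹ := by rw [h']; group
      exact (mul_inv_eq_one.mp (hfpf _ this)).symm
  obtain ⟨y, rfl⟩ := hsurj x
  have hx' : σ (σ (y⁻¹ * σ y)) = (y⁻¹ * σ y)⁻¹ := hx
  have h : y⁻¹ * σ y * σ (y⁻¹ * σ y) * (y⁻¹ * σ y)⁻¹ * (σ (y⁻¹ * σ y))⁻¹ = 1 := by
    calc y⁻¹ * σ y * σ (y⁻¹ * σ y) * (y⁻¹ * σ y)⁻¹ * (σ (y⁻¹ * σ y))⁻¹
        = y⁻¹ * σ y * σ (y⁻¹ * σ y) * σ (σ (y⁻¹ * σ y)) * σ (σ (σ (y⁻¹ * σ y))) := by
          rw [hx', map_inv σ (y⁻¹ * σ y)]
      _ = y⁻¹ * σ (σ (σ (σ y))) := by simp only [map_mul, map_inv]; group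
      _ = 1 := by rw [iterate_four hσ, inv_mul_cancel]
  rw [mul_inv_eq_one, mul_inv_eq_iff_eq_mul] at h
  exact h

/-- The decomposition into a fixed and an inverted element is unique. -/
theorem mul_injective {f f' y y' : M} (hf : f ∈ sqFix σ) (hf' : f' ∈ sqFix σ) (hy : y ∈ sqInv σ)
    (hy' : y' ∈ sqInv σ) (h : f * y = f' * y') : f = f' ∧ y = y' := by
  have e : f'⁻¹ * f = y' * y⁻¹ := by
    calc f'⁻¹ * f = f'⁻¹ * (f * y) * y⁻¹ := by group
      _ = _ := by rw [h]; group
  have hfix : σ (σ (y' * y⁻¹)) = y' * y⁻¹ := by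
    rw [← e]; exact (sqFix σ).mul_mem ((sqFix σ).inv_mem hf') hf
  rw [map_mul, map_mul, map_inv, map_inv, show σ (σ y') = y'⁻¹ from hy',
    show σ (σ y) = y⁻¹ from hy, inv_inv] at hfix
  have he : y ^ 2 = y' ^ 2 := by
    calc y ^ 2 = y' * (y'⁻¹ * y) * y := by rw [pow_two]; group
      _ = y' * (y' * y⁻¹) * y := by rw [hfix]
      _ = y' ^ 2 := by rw [pow_two]; group
  have hyy := sq_injective (odd_card_of_fpf_four σ hσ hfpf) he
  rw [hyy] at h
  exact ⟨mul_right_cancel h, hyy⟩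

/-- A `σ`-invariant subgroup is the product of its fixed and its inverted elements. -/
theorem card_eq_mul (P : Subgroup M) (hP : ∀ x ∈ P, σ x ∈ P) :
    Nat.card P = Nat.card (sqFix σ ⊓ P : Subgroup M) * Nat.card ↥(sqInv σ ∩ P) := by
  have hodd := odd_card_of_fpf_four σ hσ hfpf
  rw [← Nat.card_prod]
  refine (Nat.card_eq_of_bijective
    (fun q : (sqFix σ ⊓ P : Subgroup M) × ↥(sqInv σ ∩ P) =>
      (⟨(q.1 : M) * (q.2 : M), P.mul_mem q.1.2.2 q.2.2.2⟩ : P)) ⟨?_, ?_⟩).symm
  · rintro ⟨f, y⟩ ⟨f', y'⟩ h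
    obtain ⟨e1, e2⟩ := mul_injective hσ hfpf f.2.1 f'.2.1 y.2.1 y'.2.1 (congrArg Subtype.val h)
    exact Prod.ext (Subtype.ext e1) (Subtype.ext e2)
  · rintro ⟨m, hm⟩
    have hx : m⁻¹ * σ (σ m) ∈ sqInv σ := by
      change σ (σ (m⁻¹ * σ (σ m))) = _
      rw [map_mul, map_mul, map_inv, map_inv, iterate_four hσ, mul_inv_rev, inv_inv]
    have hxP : m⁻¹ * σ (σ m) ∈ P := P.mul_mem (P.inv_mem hm) (hP _ (hP _ hm))
    obtain ⟨r, hr⟩ : 2 ∣ Nat.card M + 1 := by omega
    set x := m⁻¹ * σ (σ m) with hxdef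
    have hz : (x ^ r) ^ 2 = x := by
      rw [← pow_mul, mul_comm, ← hr, pow_succ, pow_card_eq_one', one_mul]
    have hzI := pow_mem_sqInv σ hx r
    refine ⟨(⟨m * x ^ r, ?_, P.mul_mem hm (P.pow_mem hxP r)⟩, ⟨(x ^ r)⁻¹, ?_, P.inv_mem (P.pow_mem hxP r)⟩),
      Subtype.ext (mul_inv_cancel_right m (x ^ r))⟩
    · change σ (σ (m * x ^ r)) = _
      have hum : σ (σ m) = m * (x ^ r) ^ 2 := by rw [hz, hxdef, mul_inv_cancel_left]
      rw [map_mul, map_mul, show σ (σ (x ^ r)) = (x ^ r)⁻¹ from hzI, hum, pow_two]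
      group
    · change σ (σ (x ^ r)⁻¹) = _
      rw [map_inv, map_inv, show σ (σ (x ^ r)) = (x ^ r)⁻¹ from hzI]

/-- There is a `σ`-invariant Sylow subgroup containing every `σ`-invariant subgroup of prime power
order. -/
theorem exists_greatest_invariant (p : ℕ) [Fact p.Prime] :
    ∃ P : Sylow p M, (∀ x ∈ (P : Subgroup M), σ x ∈ (P : Subgroup M)) ∧
      ∀ U : Subgroup M, IsPGroup p U → (∀ x ∈ U, σ x ∈ U) → U ≤ P := by
  have hA : Nat.card (Subgroup.zpowers σ) ∣ 4 := by
    rw [Nat.card_zpowers]; exact orderOf_dvd_of_pow_eq_one hσ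
  have hcop : (Nat.card (Subgroup.zpowers σ)).Coprime (Nat.card M) := by
    refine Nat.Coprime.coprime_dvd_left hA ?_
    exact Nat.Coprime.pow_left 2 (Nat.prime_two.coprime_iff_not_dvd.mpr (odd_card_of_fpf_four σ hσ hfpf))
  have hsolv : Group.IsSolvable (Subgroup.zpowers σ) ∨ Group.IsSolvable M :=
    Or.inl (Group.isSolvable_of_comm fun a b => mul_comm' a b)
  have hinv : ∀ {U : Subgroup M}, (∀ x ∈ U, σ x ∈ U) → ∀ a : Subgroup.zpowers σ, ∀ u ∈ U,
      a • u ∈ U := by
    intro U hU a u hu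
    have ha : (a : MulAut M) ∈ Submonoid.powers σ := by
      rw [mem_powers_iff_mem_zpowers]; exact a.2
    obtain ⟨k, hk⟩ := ha
    change (a : MulAut M) u ∈ U
    rw [← hk]
    clear hk
    induction k generalizing u with
    | zero => simpa using hu
    | succ k ih => simp only [pow_succ, MulAut.mul_apply] at ih ⊢; exact ih _ (hU u hu)
  have hgen : ∀ U : Subgroup M, IsPGroup p U → (∀ x ∈ U, σ x ∈ U) →
      ∃ P : Sylow p M, U ≤ P ∧ ∀ a : Subgroup.zpowers σ, ∀ x ∈ (P : Subgroup M),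
        a • x ∈ (P : Subgroup M) := fun U hU hU' =>
    CfsgLib.Solvable.exists_smul_invariant_sylow hcop hsolv p hU (hinv hU')
  obtain ⟨P, -, hP⟩ := hgen ⊥ IsPGroup.of_bot (fun x hx => by
    rw [mem_bot] at hx ⊢; rw [hx, map_one])
  refine ⟨P, fun x hx => hP ⟨σ, mem_zpowers σ⟩ x hx, fun U hU hU' => ?_⟩
  obtain ⟨Q, hUQ, hQ⟩ := hgen U hU hU'
  obtain ⟨c, hc, hcQ⟩ := CfsgLib.Solvable.exists_smul_fixed_conj_sylow hcop hsolv Q P hQ hP
  rw [hfpf c (hc ⟨σ, mem_zpowers σ⟩), one_smul] at hcQ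
  exact hcQ ▸ hUQ

/-- **Gorenstein–Herstein.** -/
theorem isSolvable_of_fpf_four : Group.IsSolvable M := by
  classical
  set S := (Nat.card M).primeFactors with hS
  have hprime : ∀ p : S, Fact (p : ℕ).Prime := fun p => ⟨Nat.prime_of_mem_primeFactors p.2⟩
  choose P hP hmax using fun p : S => exists_greatest_invariant hσ hfpf (p : ℕ)
  set n := Nat.card M with hn
  have hn0 : n ≠ 0 := Nat.card_pos.ne'
  -- idempotent exponents
  have hexp : ∀ p : S, ∃ e : ℕ, ((p : ℕ) ^ n.factorization p ∣ (1 + (n - 1) * e)) ∧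
      (n / (p : ℕ) ^ n.factorization p) ∣ e := by
    intro p
    have hd : (p : ℕ) ^ n.factorization p ∣ n := Nat.ordProj_dvd n p
    have hc : ((p : ℕ) ^ n.factorization p).Coprime (n / (p : ℕ) ^ n.factorization p) :=
      Nat.Coprime.pow_left _ (Nat.coprime_ordCompl (hprime p).out hn0)
    obtain ⟨e, he1, he2⟩ := Nat.chineseRemainder hc 1 0
    refine ⟨e, ?_, Nat.dvd_of_mod_eq_zero (by simpa [Nat.ModEq] using he2)⟩
    rw [← Int.natCast_dvd_natCast]
    have h1 : ((p : ℕ) ^ n.factorization p : ℤ) ∣ (1 : ℤ) - e := by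
      exact_mod_cast (Nat.modEq_iff_dvd.mp he1)
    have h2 : ((p : ℕ) ^ n.factorization p : ℤ) ∣ (n : ℤ) := by exact_mod_cast hd
    have : ((1 + (n - 1) * e : ℕ) : ℤ) = (1 - (e : ℤ)) + (n : ℤ) * e := by
      rw [Nat.cast_add, Nat.cast_mul, Nat.cast_sub (Nat.card_pos : 1 ≤ n)]; push_cast; ring
    rw [this, Nat.cast_pow]
    exact dvd_add h1 (h2.mul_right _)
  choose e he1 he2 using hexp
  have hsum : n ∣ 1 + (n - 1) * ∑ p, e p := by
    rw [← Nat.factorization_prime_le_iff_dvd hn0 (by omega)]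
    intro q hq
    by_cases hqn : q ∣ n
    · refine (hq.pow_dvd_iff_le_factorization (by omega)).mp ?_
      let q' : S := ⟨q, Nat.mem_primeFactors.mpr ⟨hq, hqn, hn0⟩⟩
      rw [← Finset.add_sum_erase _ _ (Finset.mem_univ q'), mul_add, ← add_assoc]
      refine dvd_add (he1 q') ((Finset.dvd_sum fun p hp => dvd_trans ?_ (he2 p)).mul_left _)
      have hne : (p : ℕ) ≠ q := fun h => (Finset.ne_of_mem_erase hp) (Subtype.ext h)
      refine (Nat.Coprime.dvd_mul_left ?_).mp
        (show q ^ n.factorization q ∣ (p : ℕ) ^ n.factorization p * (n / (p : ℕ) ^ n.factorization p) by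
          rw [Nat.ordProj_mul_ordCompl_eq_self]; exact Nat.ordProj_dvd n q)
      exact Nat.Coprime.pow _ _ ((Nat.coprime_primes hq (hprime p).out).mpr (Ne.symm hne))
    · rw [Nat.factorization_eq_zero_of_not_dvd hqn]; exact Nat.zero_le _
  have hpow : ∀ x : M, x ^ (∑ p, e p) = x := by
    intro x
    have h1 : x ^ (1 + (n - 1) * ∑ p, e p) = 1 := by
      obtain ⟨k, hk⟩ := hsum
      rw [hk, pow_mul, pow_card_eq_one', one_pow]
    rw [pow_add, pow_one, pow_mul] at h1
    have h2 : x ^ (n - 1) = x⁻¹ := by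
      refine eq_inv_of_mul_eq_one_left ?_
      rw [← pow_succ, Nat.sub_add_cancel (Nat.card_pos : 1 ≤ n), pow_card_eq_one']
    rw [h2, inv_pow, mul_inv_eq_one] at h1
    exact h1.symm
  -- components of inverted elements
  have hcomp : ∀ (p : S) (x : M), x ∈ sqInv σ → x ^ e p ∈ sqInv σ ∩ (P p : Subgroup M) := by
    intro p x hx
    have hI := pow_mem_sqInv σ hx (e p)
    refine ⟨hI, ?_⟩
    set z := x ^ e p with hz
    have hzp : z ^ (p : ℕ) ^ n.factorization p = 1 := by
      obtain ⟨k, hk⟩ := he2 p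
      rw [hz, ← pow_mul, hk, mul_comm, ← mul_assoc, Nat.ordProj_mul_ordCompl_eq_self, pow_mul,
        pow_card_eq_one', one_pow]
    have hzc := commute_apply hσ hfpf hI
    have hzp' : ∀ w : M, w ^ (p : ℕ) ^ n.factorization p = 1 →
        IsPGroup (p : ℕ) (Subgroup.zpowers w) := fun w hw y => by
      obtain ⟨k, hk⟩ := mem_zpowers_iff.mp y.2
      exact ⟨n.factorization p, Subtype.ext (by
        rw [SubmonoidClass.coe_pow, OneMemClass.coe_one, ← hk, ← zpow_natCast, ← zpow_mul,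
          mul_comm, zpow_mul, zpow_natCast, hw, one_zpow])⟩
    refine hmax p (Subgroup.zpowers z ⊔ Subgroup.zpowers (σ z))
      (IsPGroup.to_sup_of_normal_left' (hzp' z hzp) (hzp' (σ z) (by rw [← map_pow, hzp, map_one])) ?_)
      ?_ (mem_sup_left (mem_zpowers z))
    · refine zpowers_le.mpr (mem_normalizer_iff.mpr fun y => ?_)
      have hfixz : ∀ w ∈ Subgroup.zpowers z, σ z * w * (σ z)⁻¹ = w := fun w hw => by
        obtain ⟨k, rfl⟩ := mem_zpowers_iff.mp hw
        rw [← (hzc.zpow_left k).eq, mul_inv_cancel_right]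
      refine ⟨fun hy => by rw [hfixz y hy]; exact hy, fun hy => ?_⟩
      have h1 := hfixz _ hy
      rw [mul_inv_eq_iff_eq_mul] at h1
      have e1 : y = σ z * y * (σ z)⁻¹ := by
        calc y = (σ z)⁻¹ * ((σ z * y * (σ z)⁻¹) * σ z) := by group
          _ = (σ z)⁻¹ * (σ z * (σ z * y * (σ z)⁻¹)) := by rw [h1]
          _ = _ := by group
      rw [e1]; exact hy
    · have hle : Subgroup.zpowers z ⊔ Subgroup.zpowers (σ z) ≤
          (Subgroup.zpowers z ⊔ Subgroup.zpowers (σ z)).comap σ.toMonoidHom := by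
        refine sup_le (zpowers_le.mpr (mem_sup_right (mem_zpowers _))) (zpowers_le.mpr ?_)
        rw [Subgroup.mem_comap]
        change σ (σ z) ∈ _
        rw [show σ (σ z) = z⁻¹ from hI]
        exact inv_mem (mem_sup_left (mem_zpowers z))
      exact fun y hy => hle hy
  let Φ : sqInv σ → ((p : S) → ↥(sqInv σ ∩ (P p : Subgroup M))) :=
    fun x p => ⟨(x : M) ^ e p, hcomp p x x.2⟩
  have hinj : Function.Injective Φ := by
    intro x y h
    refine Subtype.ext ?_
    rw [← hpow (x : M), ← hpow (y : M)]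
    have : ∀ s : Finset S, (x : M) ^ (∑ p ∈ s, e p) = (y : M) ^ (∑ p ∈ s, e p) := fun s => by
      induction s using Finset.induction_on with
      | empty => simp
      | insert a s ha ih =>
        rw [Finset.sum_insert ha, pow_add, pow_add, ih,
          show (x : M) ^ e a = (y : M) ^ e a from congrArg Subtype.val (congrFun h a)]
    exact this _
  -- counting
  have hcardI : Nat.card (sqInv σ) = ∏ p : S, Nat.card ↥(sqInv σ ∩ (P p : Subgroup M)) := by
    have h0 := card_eq_mul hσ hfpf ⊤ (fun _ _ => mem_top _)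
    rw [Subgroup.card_top, inf_top_eq, Subgroup.coe_top, Set.inter_univ, ← hn] at h0
    have hIne : Nat.card (sqInv σ) ≠ 0 := by
      intro e0; rw [e0, mul_zero] at h0; exact hn0 h0
    have hloc : ∀ p : S, Nat.card ↥(sqInv σ ∩ (P p : Subgroup M)) =
        (p : ℕ) ^ (Nat.card (sqInv σ)).factorization p := by
      intro p
      have h1 := card_eq_mul hσ hfpf (P p : Subgroup M) (hP p)
      have hFp : Nat.card (sqFix σ ⊓ (P p : Subgroup M) : Subgroup M) =
          (p : ℕ) ^ (Nat.card (sqFix σ)).factorization p := by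
        obtain ⟨Q⟩ : Nonempty (Sylow (p : ℕ) (sqFix σ)) := inferInstance
        have hQle : ((Q : Subgroup (sqFix σ)).map (sqFix σ).subtype) ≤ P p := by
          refine hmax p _ (Q.2.map _) ?_
          rintro _ ⟨⟨f, hf⟩, hfQ, rfl⟩
          rw [subtype_apply, apply_of_mem_sqFix hσ hfpf hf]
          exact ⟨⟨f, hf⟩⁻¹, inv_mem hfQ, rfl⟩
        obtain ⟨k, hk⟩ := IsPGroup.iff_card.mp ((P p).2.to_le
          (inf_le_right : sqFix σ ⊓ (P p : Subgroup M) ≤ _))
        refine Nat.dvd_antisymm ?_ ?_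
        · rw [hk]
          refine pow_dvd_pow _ (((hprime p).out.pow_dvd_iff_le_factorization Nat.card_pos.ne').mp ?_)
          rw [← hk]; exact card_dvd_of_le inf_le_left
        · rw [← Q.card_eq_multiplicity, ← Subgroup.card_subtype]
          exact card_dvd_of_le (le_inf (map_subtype_le _) hQle)
      rw [(P p).card_eq_multiplicity, hFp, ← hn, h0,
        Nat.factorization_mul Nat.card_pos.ne' hIne, Finsupp.add_apply, pow_add] at h1
      exact (Nat.eq_of_mul_eq_mul_left (pow_pos (hprime p).out.pos _) h1).symm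
    simp only [hloc]
    rw [Finset.prod_coe_sort S (fun p => p ^ (Nat.card (sqInv σ)).factorization p)]
    refine (Nat.prod_factorization_pow_eq_self hIne).symm.trans
      (Finsupp.prod_of_support_subset _ ?_ _ (fun _ _ => pow_zero _))
    intro q hq
    rw [Nat.support_factorization, Nat.mem_primeFactors] at hq
    rw [hS, Nat.mem_primeFactors]
    exact ⟨hq.1, hq.2.1.trans (Dvd.intro_left _ h0.symm), hn0⟩
  have hbij : Function.Bijective Φ := by
    refine (Nat.bijective_iff_injective_and_card Φ).mpr ⟨hinj, ?_⟩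
    rw [Nat.card_pi, hcardI]
  let Q : S → Subgroup M := fun p => Subgroup.closure (sqInv σ ∩ (P p : Subgroup M))
  have hQP : ∀ p, Q p ≤ P p := fun p => (closure_le _).mpr Set.inter_subset_right
  have hcomm : Pairwise fun p r : S => ∀ a b : M, a ∈ Q p → b ∈ Q r → Commute a b := by
    intro p r hpr a b ha hb
    have hgen : Q p ≤ Subgroup.centralizer (Q r : Set M) := by
      refine (closure_le _).mpr fun a ha => ?_
      rw [SetLike.mem_coe, Subgroup.centralizer_closure]
      intro b hb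
      obtain ⟨x, hx⟩ := hbij.2 (Function.update (Function.update (fun q => Φ ⟨1, by
        change σ (σ 1) = 1⁻¹; simp⟩ q) p ⟨a, ha⟩) r ⟨b, hb⟩)
      have hxa : (x : M) ^ e p = a := by
        have := congrArg Subtype.val (congrFun hx p)
        simpa [Φ, Function.update_of_ne hpr] using this
      have hxb : (x : M) ^ e r = b := by
        have := congrArg Subtype.val (congrFun hx r)
        simpa [Φ] using this
      rw [← hxa, ← hxb]
      exact ((Commute.refl (x : M)).pow_pow _ _).eq.symm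
    exact (hgen ha b hb).symm
  let N : Subgroup M := Subgroup.closure (sqInv σ)
  have hNle : N ≤ (Subgroup.noncommPiCoprod (H := Q) hcomm).range := by
    refine (closure_le _).mpr fun x hx => ?_
    rw [SetLike.mem_coe, Subgroup.noncommPiCoprod_range, ← hpow x]
    have : ∀ s : Finset S, x ^ (∑ p ∈ s, e p) ∈ ⨆ p, Q p := fun s => by
      induction s using Finset.induction_on with
      | empty => simp
      | insert a s ha ih =>
        rw [Finset.sum_insert ha, pow_add]
        exact mul_mem (le_iSup Q a (subset_closure (hcomp a x hx))) ih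
    exact this _
  have : ∀ p : S, Group.IsNilpotent (Q p) := fun p =>
    ((P p).2.to_le (hQP p)).isNilpotent
  have hRsol : Group.IsSolvable (Subgroup.noncommPiCoprod (H := Q) hcomm).range :=
    Group.isSolvable_of_surjective (Subgroup.noncommPiCoprod (H := Q) hcomm).rangeRestrict_surjective
  have hNsol : Group.IsSolvable N :=
    Group.isSolvable_of_isSolvable_injective (inclusion_injective hNle)
  have hdec : ∀ m : M, ∃ f ∈ sqFix σ, ∃ x ∈ sqInv σ, f * x = m := by
    intro m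
    have hb := card_eq_mul hσ hfpf ⊤ (fun _ _ => mem_top _)
    have hinj' : Function.Injective (fun q : (sqFix σ ⊓ ⊤ : Subgroup M) × ↥(sqInv σ ∩ ((⊤ : Subgroup M) : Set M)) =>
        (q.1 : M) * (q.2 : M)) := by
      rintro ⟨f, y⟩ ⟨f', y'⟩ h
      obtain ⟨e1, e2⟩ := mul_injective hσ hfpf f.2.1 f'.2.1 y.2.1 y'.2.1 h
      exact Prod.ext (Subtype.ext e1) (Subtype.ext e2)
    obtain ⟨⟨f, x⟩, hfx⟩ := ((Nat.bijective_iff_injective_and_card _).mpr ⟨hinj', by
      rw [Nat.card_prod, ← hb, Subgroup.card_top]⟩).2 m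
    exact ⟨f, f.2.1, x, x.2.1, hfx⟩
  have hFI : ∀ f ∈ sqFix σ, ∀ x ∈ sqInv σ, f * x * f⁻¹ ∈ sqInv σ := by
    intro f hf x hx
    change σ (σ (f * x * f⁻¹)) = _
    rw [map_mul, map_mul, map_mul, map_mul, map_inv, map_inv, mem_sqFix σ |>.mp hf,
      show σ (σ x) = x⁻¹ from hx]
    group
  have hNn : N.Normal := by
    rw [← normalizer_eq_top_iff, eq_top_iff]
    intro m _
    obtain ⟨f, hf, x, hx, rfl⟩ := hdec m
    refine mul_mem ?_ (le_normalizer (subset_closure hx))
    have hconj : ∀ g ∈ sqFix σ, N ≤ N.comap (MulAut.conj g).toMonoidHom := fun g hg =>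
      (closure_le _).mpr fun y hy => subset_closure (hFI g hg y hy)
    rw [mem_normalizer_iff]
    intro y
    refine ⟨fun hy => hconj f hf hy, fun hy => ?_⟩
    have h1 : f⁻¹ * (f * y * f⁻¹) * f⁻¹⁻¹ ∈ N := hconj f⁻¹ (inv_mem hf) hy
    simpa [mul_assoc] using h1
  have : Group.IsSolvable (M ⧸ N) := by
    refine Group.isSolvable_of_comm fun a b => ?_
    obtain ⟨a, rfl⟩ := QuotientGroup.mk_surjective a
    obtain ⟨b, rfl⟩ := QuotientGroup.mk_surjective b
    obtain ⟨f, hf, x, hx, rfl⟩ := hdec a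
    obtain ⟨f', hf', x', hx', rfl⟩ := hdec b
    have h1 : ∀ y ∈ sqInv σ, (y : M ⧸ N) = 1 := fun y hy =>
      (QuotientGroup.eq_one_iff y).mpr (subset_closure hy)
    rw [QuotientGroup.mk_mul, QuotientGroup.mk_mul, h1 x hx, h1 x' hx', mul_one, mul_one,
      ← QuotientGroup.mk_mul, sqFix_comm hσ hfpf hf hf', QuotientGroup.mk_mul]
  exact Group.isSolvable_of_ker_le_range N.subtype (QuotientGroup.mk' N)
    (by rw [QuotientGroup.ker_mk', Subgroup.range_subtype])

end

end CfsgLib.OneNonVanish
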