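import Cfsg.Agent.Lib.NonVanish.ClassTwo
import Cfsg.Agent.Lib.NonVanish.FpfFour
import Cfsg.Agent.Lib.Transfer.Tate
import Cfsg.Agent.Lib.Solvable.SmallOrder
import Cfsg.Agent.S0033

/-!
If the elements of the derived group outside a normal subgroup `K` form a single class, and no
element outside the derived group is central modulo `K`, then the group is solvable.
-/

set_option autoImplicit false

open Subgroup
open scoped commutatorElement

namespace CfsgLib.OneNonVanish

universe u

/-! ### The quotient -/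

/-- A normal subgroup whose nonidentity elements are conjugate is elementary abelian. -/
theorem elementary_of_single_class {Q : Type u} [Group Q] [Finite Q] (D : Subgroup Q) [D.Normal]
    (g : Q) (hg : g ∈ D) (hg1 : g ≠ 1) (hconj : ∀ x ∈ D, x ≠ 1 → IsConj g x) :
    ∃ p : ℕ, p.Prime ∧ IsPGroup p D ∧ (∀ x ∈ D, x ^ p = 1) ∧ ∀ x ∈ D, ∀ y ∈ D, x * y = y * x := by
  set r := (orderOf g).minFac with hr
  have hgord : orderOf g ≠ 1 := fun e => hg1 (orderOf_eq_one_iff.mp e)
  have hrp : r.Prime := Nat.minFac_prime hgord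
  obtain ⟨k, hk⟩ := Nat.minFac_dvd (orderOf g)
  rw [← hr] at hk
  have hk0 : k ≠ 0 := fun e => (orderOf_pos g).ne' (by rw [hk, e, mul_zero])
  set z := g ^ k with hz
  have hz1 : orderOf z = r := by
    rw [hz, orderOf_pow_of_dvd hk0 (Dvd.intro_left r hk.symm), hk,
      Nat.mul_div_cancel _ (Nat.pos_of_ne_zero hk0)]
  have hzne : z ≠ 1 := fun e => hrp.ne_one (by rw [← hz1, e, orderOf_one])
  have hpow : ∀ x ∈ D, x ^ r = 1 := by
    intro x hx
    by_cases hx1 : x = 1
    · rw [hx1, one_pow]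
    obtain ⟨c, hc⟩ := isConj_iff.mp ((hconj z (D.pow_mem hg k) hzne).symm.trans (hconj x hx hx1))
    rw [← hc, conj_pow, ← hz1, pow_orderOf_eq_one, mul_one, mul_inv_cancel]
  have hp : IsPGroup r D := fun x => ⟨1, Subtype.ext (by
    rw [pow_one, SubmonoidClass.coe_pow, OneMemClass.coe_one]; exact hpow x x.2)⟩
  refine ⟨r, hrp, hp, hpow, ?_⟩
  have : Fact r.Prime := ⟨hrp⟩
  have : Group.IsNilpotent D := hp.isNilpotent
  have hD : (⊤ : Subgroup D) ≠ ⊥ := fun e => hg1 (congrArg Subtype.val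
    ((Subgroup.eq_bot_iff_forall _).mp e ⟨g, hg⟩ (mem_top _)))
  obtain ⟨w, hw, hw1⟩ := (Subgroup.bot_or_exists_ne_one _).resolve_left
    (CfsgLib.Transfer.inf_center_ne_bot hD)
  have hwc : ∀ y ∈ D, y * (w : Q) = w * y := fun y hy =>
    congrArg Subtype.val (mem_center_iff.mp hw.2 ⟨y, hy⟩)
  intro x hx y hy
  by_cases hx1 : x = 1
  · rw [hx1, one_mul, mul_one]
  obtain ⟨c, hc⟩ := isConj_iff.mp
    ((hconj w w.2 fun e => hw1 (Subtype.ext e)).symm.trans (hconj x hx hx1))
  have h1 := hwc (c⁻¹ * y * c) (by simpa using ‹D.Normal›.conj_mem y hy c⁻¹)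
  calc x * y = c * ((w : Q) * (c⁻¹ * y * c)) * c⁻¹ := by rw [← hc]; group
    _ = c * ((c⁻¹ * y * c) * (w : Q)) * c⁻¹ := by rw [h1]
    _ = y * x := by rw [← hc]; group

/-! ### A normal complement -/

theorem exists_pComplement {H : Type u} [Group H] [Finite H] (p : ℕ) [hp : Fact p.Prime]
    (K : Subgroup H) [K.Normal] (g : H) (hgK : g ∉ K) (hquot : IsPGroup p (H ⧸ K))
    (hC : Nat.card (centralizer ({g} : Set H)) = K.index) (hgc : ∀ h : H, ⁅h, g⁆ ∈ K) :
    ∃ (S : Sylow p H) (M : Subgroup H), g ∈ (S : Subgroup H) ∧ M ≤ K ∧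
      IsComplement' M (S : Subgroup H) ∧ (∀ m, m ∈ M ↔ m ∈ K ∧ ¬ p ∣ orderOf m) ∧
      (∀ m ∈ M, m * g = g * m → m = 1) ∧
      (∀ w ∈ (S : Subgroup H), w ∈ K → ∃ s ∈ (S : Subgroup H), s * g * s⁻¹ = g * w) ∧
      (S : Subgroup H).index ∣ Nat.card K := by
  obtain ⟨a, ha⟩ := IsPGroup.iff_card.mp hquot
  rw [← index_eq_card] at ha
  have hCp : IsPGroup p (centralizer ({g} : Set H)) := IsPGroup.of_card (hC.trans ha)
  obtain ⟨S, hS⟩ := hCp.exists_le_sylow
  have hgS : g ∈ (S : Subgroup H) := hS (mem_centralizer_singleton_iff.mpr rfl)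
  have hKS : K ⊔ (S : Subgroup H) = ⊤ := by
    rw [← index_eq_one]
    refine Nat.eq_one_of_dvd_coprimes (a := K.index) (b := (S : Subgroup H).index) ?_
      (index_dvd_of_le le_sup_left) (index_dvd_of_le le_sup_right)
    rw [ha]
    exact Nat.Coprime.pow_left a (hp.out.coprime_iff_not_dvd.mpr S.not_dvd_index)
  have hrel : K.relIndex (S : Subgroup H) = K.index := by
    rw [← relIndex_sup_right (S : Subgroup H) K, sup_comm, hKS, relIndex_top_right]
  have hScard : Nat.card (S : Subgroup H) = Nat.card (K ⊓ (S : Subgroup H) : Subgroup H) * K.index := by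
    rw [← hrel, ← inf_relIndex_right K (S : Subgroup H), ← relIndex_bot_left, ← relIndex_bot_left,
      relIndex_mul_relIndex _ _ _ bot_le inf_le_right]
  have hclass : ∀ w ∈ (S : Subgroup H), w ∈ K → ∃ s ∈ (S : Subgroup H), s * g * s⁻¹ = g * w := by
    intro w hw hwK
    have h1 := CfsgLib.Char.card_isConj_mul_card_centralizer (⟨g, hgS⟩ : (S : Subgroup H))
    have hC' : Nat.card (centralizer ({⟨g, hgS⟩} : Set (S : Subgroup H))) = K.index := by
      rw [← hC, ← Nat.card_congr (subgroupOfEquivOfLe hS).toEquiv]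
      refine congrArg (fun L : Subgroup (S : Subgroup H) => Nat.card L) (SetLike.ext fun x => ?_)
      simp only [mem_subgroupOf, mem_centralizer_singleton_iff, Subtype.ext_iff, Subgroup.coe_mul]
    rw [hC', hScard] at h1
    have hcls : Nat.card {x : (S : Subgroup H) // IsConj ⟨g, hgS⟩ x} =
        Nat.card (K ⊓ (S : Subgroup H) : Subgroup H) :=
      Nat.eq_of_mul_eq_mul_right (Nat.pos_of_ne_zero index_ne_zero_of_finite) h1
    have hmem : ∀ x : {x : (S : Subgroup H) // IsConj ⟨g, hgS⟩ x},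
        g⁻¹ * ((x : (S : Subgroup H)) : H) ∈ K ⊓ (S : Subgroup H) := by
      intro x
      refine mem_inf.mpr ⟨?_, mul_mem (inv_mem hgS) x.1.2⟩
      obtain ⟨c, hc⟩ := isConj_iff.mp x.2
      have e := congrArg Subtype.val hc
      simp only [Subgroup.coe_mul, Subgroup.coe_inv] at e
      rw [← e]
      have h2 : g⁻¹ * ⁅(c : H), g⁆ * g⁻¹⁻¹ ∈ K := ‹K.Normal›.conj_mem _ (hgc c) g⁻¹
      simpa [commutatorElement_def, mul_assoc] using h2
    let φ : {x : (S : Subgroup H) // IsConj ⟨g, hgS⟩ x} → (K ⊓ (S : Subgroup H) : Subgroup H) :=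
      fun x => ⟨g⁻¹ * ((x : (S : Subgroup H)) : H), hmem x⟩
    obtain ⟨x, hx⟩ := ((Nat.bijective_iff_injective_and_card φ).mpr ⟨fun a b e => by
      have e' : g⁻¹ * ((a.1 : (S : Subgroup H)) : H) = g⁻¹ * ((b.1 : (S : Subgroup H)) : H) :=
        congrArg Subtype.val e
      exact Subtype.ext (Subtype.ext (mul_left_cancel e')), hcls⟩).2 ⟨w, hwK, hw⟩
    obtain ⟨c, hc⟩ := isConj_iff.mp x.2
    refine ⟨c, c.2, ?_⟩
    have e := congrArg Subtype.val hc
    simp only [Subgroup.coe_mul, Subgroup.coe_inv] at e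
    have e' : g⁻¹ * ((x.1 : (S : Subgroup H)) : H) = w := congrArg Subtype.val hx
    rw [e, ← e', mul_inv_cancel_left]
  -- Tate
  have htate : Cfsg.HasNormalPComplement p K := by
    refine CfsgLib.Transfer.hasNormalPComplement_of_inf_le_frattini S K fun w hw => ?_
    obtain ⟨s, hs, e⟩ := hclass w hw.2 hw.1
    have : Group.IsNilpotent (S : Subgroup H) := S.2.isNilpotent
    refine ⟨⁅(⟨g, hgS⟩ : (S : Subgroup H))⁻¹, ⟨s, hs⟩⁆,
      CfsgLib.Transfer.commutator_le_frattini (commutator_mem_commutator (mem_top _) (mem_top _)), ?_⟩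
    simp only [map_commutatorElement, subtype_apply, Subgroup.coe_inv, commutatorElement_def, inv_inv]
    calc g⁻¹ * s * g * s⁻¹ = g⁻¹ * (s * g * s⁻¹) := by group
      _ = w := by rw [e, inv_mul_cancel_left]
  obtain ⟨P, M0, hM0n, hM0c⟩ := htate
  have hM0idx : M0.index = Nat.card (P : Subgroup K) := hM0c.symm.index_eq_card
  have hM0cop : ¬ p ∣ Nat.card M0 := by
    intro hd
    exact P.not_dvd_index (hM0c.index_eq_card.symm ▸ hd)
  have hmem0 : ∀ x : K, x ∈ M0 ↔ ¬ p ∣ orderOf x := by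
    intro x
    refine ⟨fun hx hd => hM0cop (hd.trans (Subgroup.orderOf_dvd_natCard M0 hx)), fun hx => ?_⟩
    rw [← QuotientGroup.eq_one_iff, ← orderOf_eq_one_iff]
    have h1 : orderOf (x : K ⧸ M0) ∣ orderOf x := orderOf_map_dvd (QuotientGroup.mk' M0) x
    have h2 : orderOf (x : K ⧸ M0) ∣ M0.index := by
      rw [index_eq_card]; exact orderOf_dvd_natCard _
    obtain ⟨b, hb⟩ := IsPGroup.iff_card.mp P.2
    rw [hM0idx, hb] at h2
    exact Nat.eq_one_of_dvd_coprimes
      (Nat.Coprime.pow_left b (hp.out.coprime_iff_not_dvd.mpr hx)) h2 h1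
  refine ⟨S, M0.map K.subtype, hgS, map_subtype_le _, ?_, fun m => ?_, ?_, hclass, ?_⟩
  · have hcM : Nat.card (M0.map K.subtype) = Nat.card M0 := Subgroup.card_subtype _ _
    refine isComplement'_of_coprime ?_ ?_
    · rw [hcM]
      have h1 : Nat.card M0 * Nat.card (P : Subgroup K) = Nat.card K := by
        rw [← hM0idx, card_mul_index]
      rw [← card_mul_index K, ← h1, mul_assoc]
      congr 1
      rw [S.card_eq_multiplicity, P.card_eq_multiplicity, ← card_mul_index K,
        Nat.factorization_mul Nat.card_pos.ne' index_ne_zero_of_finite, Finsupp.add_apply, ha,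
        hp.out.factorization_pow, Finsupp.single_eq_same, pow_add]
    · rw [hcM]
      obtain ⟨b, hb⟩ := IsPGroup.iff_card.mp S.2
      rw [hb]
      exact (Nat.Coprime.pow_left b (hp.out.coprime_iff_not_dvd.mpr hM0cop)).symm
  · constructor
    · rintro ⟨x, hx, rfl⟩
      refine ⟨x.2, ?_⟩
      rw [subtype_apply, Subgroup.orderOf_coe]
      exact (hmem0 x).mp hx
    · rintro ⟨hmK, hm⟩
      exact ⟨⟨m, hmK⟩, (hmem0 _).mpr (by rwa [Subgroup.orderOf_mk]), rfl⟩
  · rintro _ ⟨x, hx, rfl⟩ e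
    obtain ⟨k, hk⟩ := IsPGroup.iff_orderOf.1 hCp
      ⟨K.subtype x, mem_centralizer_singleton_iff.mpr e⟩
    rw [Subgroup.orderOf_mk, subtype_apply, Subgroup.orderOf_coe] at hk
    refine congrArg Subtype.val (orderOf_eq_one_iff.mp (hk.trans ?_) : x = 1)
    cases k with
    | zero => exact pow_zero p
    | succ k => exact absurd (hk ▸ dvd_pow_self p k.succ_ne_zero) ((hmem0 x).mp hx)
  · have h1 := card_mul_index (S : Subgroup H)
    rw [hScard, ← card_mul_index K, mul_comm (Nat.card K), mul_comm (Nat.card _) K.index,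
      mul_assoc] at h1
    exact Dvd.intro_left _ (Nat.eq_of_mul_eq_mul_left (Nat.pos_of_ne_zero index_ne_zero_of_finite) h1)

/-! ### The central case -/

/-- The hypotheses on the Sylow subgroup in the central case. -/
structure TwoData {S : Type u} [Group S] (P : Subgroup S) (g : S) : Prop where
  normal : P.Normal
  le : P ≤ commutator S
  notMem : g ∉ P
  mem : g ∈ commutator S
  two : ∀ x ∈ commutator S, x ∈ P ∨ g⁻¹ * x ∈ P
  central : ∀ s : S, ⁅s, g⁆ ∈ P
  sq : ∀ x : S, x * x ∈ commutator S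
  center : ∀ z : S, (∀ y : S, ⁅z, y⁆ ∈ P) → z ∈ commutator S
  conj : ∀ w ∈ P, ∃ s : S, s * g * s⁻¹ = g * w

namespace TwoData

variable {S : Type u} [Group S] {P : Subgroup S} {g : S}

theorem sq_mem (h : TwoData P g) : g * g ∈ P := by
  refine (h.two _ (mul_mem h.mem h.mem)).resolve_right fun e => h.notMem ?_
  rwa [inv_mul_cancel_left] at e

theorem quotient (h : TwoData P g) (Y : Subgroup S) [Y.Normal] (hY : Y ≤ P) :
    TwoData (P.map (QuotientGroup.mk' Y)) (QuotientGroup.mk' Y g) := by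
  have hsurj := QuotientGroup.mk'_surjective Y
  have hcomm : (commutator S).map (QuotientGroup.mk' Y) = commutator (S ⧸ Y) := by
    rw [_root_.commutator_def, _root_.commutator_def, map_commutator, map_top_of_surjective _ hsurj]
  have hback : ∀ x, QuotientGroup.mk' Y x ∈ P.map (QuotientGroup.mk' Y) → x ∈ P := by
    rintro x ⟨w, hw, e⟩
    have : w⁻¹ * x ∈ P := hY (by
      rw [← QuotientGroup.ker_mk' Y, MonoidHom.mem_ker, map_mul, map_inv, e, inv_mul_cancel])
    simpa using mul_mem hw this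
  refine
    { normal := h.normal.map _ hsurj
      le := hcomm ▸ map_mono h.le
      notMem := fun e => h.notMem (hback _ e)
      mem := hcomm ▸ mem_map_of_mem _ h.mem
      two := ?_
      central := fun s => ?_
      sq := fun x => ?_
      center := fun z hz => ?_
      conj := ?_ }
  · rw [← hcomm]
    rintro _ ⟨x, hx, rfl⟩
    rw [← map_inv, ← map_mul]
    exact (h.two x hx).imp (mem_map_of_mem _) (mem_map_of_mem _)
  · obtain ⟨s, rfl⟩ := hsurj s
    rw [← map_commutatorElement]; exact mem_map_of_mem _ (h.central s)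
  · obtain ⟨x, rfl⟩ := hsurj x
    rw [← map_mul, ← hcomm]; exact mem_map_of_mem _ (h.sq x)
  · obtain ⟨z, rfl⟩ := hsurj z
    rw [← hcomm]
    refine mem_map_of_mem _ (h.center z fun y => hback _ ?_)
    rw [map_commutatorElement]; exact hz _
  · rintro _ ⟨w, hw, rfl⟩
    obtain ⟨s, hs⟩ := h.conj w hw
    exact ⟨QuotientGroup.mk' Y s, by rw [← map_inv, ← map_mul, ← map_mul, hs, map_mul]⟩

/-- Two elements centralising `g` commute modulo `P` when `P` is central of order two. -/
theorem commutator_mem_of_commute (h : TwoData P g) (hPc : P ≤ Subgroup.center S)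
    {z : S} (hz : z ∈ P) (hz1 : z ≠ 1) {a b : S} (ha : Commute a g) (hb : Commute b g) :
    ⁅a, b⁆ ∈ P := by
  have := h.normal
  have hPc' : ∀ w ∈ P, ∀ s : S, s * w = w * s := fun w hw s => mem_center_iff.mp (hPc hw) s
  by_contra hab
  obtain ⟨c, hc⟩ : ∃ c : S, ¬ Commute c g := by
    obtain ⟨s, hs⟩ := h.conj z hz
    refine ⟨s, fun e => hz1 ?_⟩
    rw [e.eq, mul_inv_cancel_right] at hs
    exact (mul_eq_left.mp hs.symm)
  have hcomm : ∀ x y : S, ⁅x, y⁆ ∈ commutator S := fun x y =>
    commutator_mem_commutator (mem_top _) (mem_top _)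
  have hq : ∀ x ∈ commutator S, ∀ s : S, (s : S ⧸ P) * x = x * s := by
    intro x hx s
    rcases h.two x hx with e | e
    · rw [(QuotientGroup.eq_one_iff x).mpr e, mul_one, one_mul]
    · have e' : (x : S ⧸ P) = g := (QuotientGroup.eq.mpr e).symm
      rw [e', ← commutatorElement_eq_one_iff_mul_comm, ← QuotientGroup.mk'_apply,
        ← QuotientGroup.mk'_apply, ← map_commutatorElement]
      exact (QuotientGroup.eq_one_iff _).mpr (h.central s)
  -- commutators modulo `P` are additive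
  have hmul : ∀ x y y' : S, ⁅x, y⁆ ∉ P → ⁅x, y'⁆ ∉ P → ⁅x, y * y'⁆ ∈ P := by
    intro x y y' h1 h2
    have e1 := (h.two _ (hcomm x y)).resolve_left h1
    have e2 := (h.two _ (hcomm x y')).resolve_left h2
    rw [← QuotientGroup.eq] at e1 e2
    rw [← QuotientGroup.eq_one_iff]
    have : ((⁅x, y * y'⁆ : S) : S ⧸ P) = ((⁅x, y⁆ : S) : S ⧸ P) * ((⁅x, y'⁆ : S) : S ⧸ P) := by
      have e3 : ⁅x, y * y'⁆ = ⁅x, y⁆ * (y * ⁅x, y'⁆ * y⁻¹) := by
        simp only [commutatorElement_def]; group
      rw [e3, QuotientGroup.mk_mul, QuotientGroup.mk_mul, QuotientGroup.mk_mul, QuotientGroup.mk_inv,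
        hq _ (hcomm x y') y, mul_inv_cancel_right]
    rw [this, ← e1, ← e2, ← QuotientGroup.mk_mul, QuotientGroup.eq_one_iff]
    exact h.sq_mem
  have hba : ⁅b, a⁆ ∉ P := fun e => hab (by simpa [commutatorElement_inv] using inv_mem e)
  obtain ⟨c, hc, hca⟩ : ∃ c, ¬ Commute c g ∧ ⁅a, c⁆ ∈ P := by
    by_cases e : ⁅a, c⁆ ∈ P
    · exact ⟨c, hc, e⟩
    · refine ⟨c * b, fun e' => hc ?_, hmul a c b e hab⟩
      simpa using e'.mul_left hb.inv_left
  obtain ⟨c, hc, hca, hcb⟩ : ∃ c, ¬ Commute c g ∧ ⁅a, c⁆ ∈ P ∧ ⁅b, c⁆ ∈ P := by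
    by_cases e : ⁅b, c⁆ ∈ P
    · exact ⟨c, hc, hca, e⟩
    · refine ⟨c * a, fun e' => hc ?_, ?_, hmul b c a e hba⟩
      · simpa using e'.mul_left ha.inv_left
      · have e3 : ⁅a, c * a⁆ = ⁅a, c⁆ := by simp only [commutatorElement_def]; group
        rwa [e3]
  obtain ⟨u, hu, eu⟩ : ∃ u ∈ P, c * a * c⁻¹ = u * a := ⟨⁅c, a⁆,
    by simpa [commutatorElement_inv] using inv_mem hca, by simp only [commutatorElement_def]; group⟩
  obtain ⟨v, hv, ev⟩ : ∃ v ∈ P, c * b * c⁻¹ = v * b := ⟨⁅c, b⁆,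
    by simpa [commutatorElement_inv] using inv_mem hcb, by simp only [commutatorElement_def]; group⟩
  have hn := (h.two _ (hcomm a b)).resolve_left hab
  set n := g⁻¹ * ⁅a, b⁆ with hn'
  have hfix : c * ⁅a, b⁆ * c⁻¹ = ⁅a, b⁆ := by
    calc c * ⁅a, b⁆ * c⁻¹ = ⁅c * a * c⁻¹, c * b * c⁻¹⁆ := by simp only [commutatorElement_def]; group
      _ = u * (a * v) * b * (u * a)⁻¹ * (v * b)⁻¹ := by rw [eu, ev, commutatorElement_def]; group
      _ = u * (v * a) * b * (u * a)⁻¹ * (v * b)⁻¹ := by rw [hPc' v hv a]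
      _ = (u * v) * (a * b * a⁻¹) * u⁻¹ * b⁻¹ * v⁻¹ := by group
      _ = u * (v * u⁻¹) * (a * b * a⁻¹) * b⁻¹ * v⁻¹ := by
        rw [mul_assoc (u * v), hPc' u⁻¹ (inv_mem hu) (a * b * a⁻¹)]; group
      _ = v * ⁅a, b⁆ * v⁻¹ := by
        rw [hPc' (v * u⁻¹) (mul_mem hv (inv_mem hu)) u, commutatorElement_def]; group
      _ = ⁅a, b⁆ := by rw [← hPc' v hv, mul_inv_cancel_right]
  refine hc ?_
  have e4 : c * g * c⁻¹ * n = g * n := by
    calc c * g * c⁻¹ * n = c * g * (c⁻¹ * n) := by group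
      _ = c * (g * n) * c⁻¹ := by rw [hPc' n hn c⁻¹]; group
      _ = g * n := by
        have e5 : g * n = ⁅a, b⁆ := by rw [hn']; group
        rw [e5, hfix]
  exact mul_inv_eq_iff_eq_mul.mp (mul_right_cancel e4)

/-- The situation when `P` is central of order two. -/
theorem core (h : TwoData P g) (hPc : P ≤ Subgroup.center S) {z : S} (hz : z ∈ P) (hz1 : z ≠ 1)
    (hP : ∀ w ∈ P, w = 1 ∨ w = z) :
    g * g = z ∧ (∀ a, Commute a g → a ∉ commutator S → a * a ∉ P) ∧
      ∃ a, Commute a g ∧ a ∉ commutator S := by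
  have := h.normal
  have hPc' : ∀ w ∈ P, ∀ s : S, s * w = w * s := fun w hw s => mem_center_iff.mp (hPc hw) s
  have hzz : z * z = 1 := by
    rcases hP _ (mul_mem hz hz) with e | e
    · exact e
    · exact absurd (mul_eq_left.mp e) hz1
  have hcomm : ∀ x y : S, ⁅x, y⁆ ∈ commutator S := fun x y =>
    commutator_mem_commutator (mem_top _) (mem_top _)
  have hgS : ∀ x ∈ commutator S, Commute x g := by
    intro x hx
    rcases h.two x hx with e | e
    · exact (hPc' x e g).symm
    · have ex : x = g * (g⁻¹ * x) := (mul_inv_cancel_left g x).symm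
      rw [ex]
      exact (Commute.refl g).mul_left (hPc' _ e g).symm
  obtain ⟨y, hy⟩ := h.conj z hz
  have hyg : ¬ Commute y g := fun e => hz1 (by
    rw [e.eq, mul_inv_cancel_right] at hy; exact mul_eq_left.mp hy.symm)
  have hnc : ∀ b, ¬ Commute b g → b * g * b⁻¹ = g * z := by
    intro b hb
    obtain ⟨w, hw, e⟩ : ∃ w ∈ P, b * g * b⁻¹ = g * w := ⟨g⁻¹ * (b * g * b⁻¹), by
      have h2 : g⁻¹ * ⁅b, g⁆ * g⁻¹⁻¹ ∈ P := ‹P.Normal›.conj_mem _ (h.central b) g⁻¹
      simpa [commutatorElement_def, mul_assoc] using h2, (mul_inv_cancel_left g _).symm⟩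
    rcases hP w hw with rfl | rfl
    · exact absurd (mul_inv_eq_iff_eq_mul.mp (e.trans (mul_one g))) hb
    · exact e
  refine (fun H : (∀ a, Commute a g → a ∉ commutator S → a * a ∉ P ∧ g * g = z) ∧
      (∃ a, Commute a g ∧ a ∉ commutator S) =>
    ⟨(H.1 _ H.2.choose_spec.1 H.2.choose_spec.2).2, fun a ha ha' => (H.1 a ha ha').1, H.2⟩) ⟨?_, ?_⟩
  · intro a ha ha'
    obtain ⟨b, hab⟩ : ∃ b, ⁅a, b⁆ ∉ P := by
      by_contra hcon; push Not at hcon; exact ha' (h.center a hcon)
    have hbg : ¬ Commute b g := fun e => hab (commutator_mem_of_commute h hPc hz hz1 ha e)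
    have hba : ⁅b, a⁆ ∉ P := fun e => hab (by simpa [commutatorElement_inv] using inv_mem e)
    have hn := (h.two _ (hcomm b a)).resolve_left hba
    set n := g⁻¹ * ⁅b, a⁆ with hn'
    have e1 : b * a * b⁻¹ = g * n * a := by
      rw [hn', mul_inv_cancel_left]; simp only [commutatorElement_def]; group
    have hnn : n * n = 1 := by
      rcases hP n hn with e | e
      · rw [e, one_mul]
      · rw [e, hzz]
    have e2 : b * (a * a) * b⁻¹ = g * g * (a * a) := by
      calc b * (a * a) * b⁻¹ = (b * a * b⁻¹) * (b * a * b⁻¹) := by group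
        _ = g * n * (a * g) * n * a := by rw [e1]; group
        _ = g * n * (g * a) * n * a := by rw [ha.eq]
        _ = g * (n * g) * (a * n) * a := by group
        _ = g * (g * n) * (n * a) * a := by rw [hPc' n hn g, hPc' n hn a]
        _ = g * g * (n * n) * (a * a) := by group
        _ = g * g * (a * a) := by rw [hnn, mul_one]
    have hsqP : a * a ∉ P := by
      intro haa
      rw [hPc' _ haa b, mul_inv_cancel_right, eq_comm, mul_eq_right] at e2
      -- then `b * b` cannot commute with `a`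
      have hca : Commute (b * b) a := by
        rcases h.two _ (h.sq b) with e | e
        · exact (hPc' _ e a).symm
        · rw [← mul_inv_cancel_left g (b * b)]
          exact ha.symm.mul_left (hPc' _ e a).symm
      have e6 : b * b * a * (b * b)⁻¹ = z * a := by
        calc b * b * a * (b * b)⁻¹ = b * (b * a * b⁻¹) * b⁻¹ := by group
          _ = b * (g * n * a) * b⁻¹ := by rw [e1]
          _ = (b * g * b⁻¹) * (b * n * b⁻¹) * (b * a * b⁻¹) := by group
          _ = g * z * n * (g * n * a) := by rw [hnc b hbg, hPc' n hn b, mul_inv_cancel_right, e1]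
          _ = g * (z * n * g) * n * a := by group
          _ = g * (g * (z * n)) * n * a := by rw [← hPc' _ (mul_mem hz hn) g]
          _ = (g * g) * z * (n * n) * a := by group
          _ = z * a := by rw [e2, hnn, one_mul, mul_one]
      rw [hca.eq, mul_inv_cancel_right] at e6
      exact hz1 (mul_eq_right.mp e6.symm)
    refine ⟨hsqP, ?_⟩
    have e3 := (h.two _ (h.sq a)).resolve_left hsqP
    have e4 : b * (a * a) * b⁻¹ = (a * a) * z := by
      obtain ⟨w, hw⟩ : ∃ w, w = g⁻¹ * (a * a) := ⟨_, rfl⟩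
      rw [← hw] at e3
      have ea : a * a = g * w := by rw [hw, mul_inv_cancel_left]
      rw [ea]
      calc b * (g * w) * b⁻¹ = (b * g * b⁻¹) * (b * w * b⁻¹) := by group
        _ = g * z * w := by rw [hnc b hbg, hPc' w e3 b, mul_inv_cancel_right]
        _ = g * w * z := by rw [mul_assoc, ← hPc' z hz w, mul_assoc]
    rw [e4, hPc' z hz] at e2
    exact (mul_right_cancel e2).symm
  · by_contra hcon
    push Not at hcon
    -- `S` would be abelian modulo `P`
    have hq : ∀ s : S, ∀ x ∈ commutator S, ⁅s, x⁆ ∈ P := by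
      intro s x hx
      rcases h.two x hx with e | e
      · rw [show ⁅s, x⁆ = 1 from commutatorElement_eq_one_iff_mul_comm.mpr (hPc' x e s)]
        exact one_mem P
      · have : ⁅s, g * (g⁻¹ * x)⁆ = ⁅s, g⁆ * (g * ⁅s, g⁻¹ * x⁆ * g⁻¹) := by
          simp only [commutatorElement_def]; group
        rw [← mul_inv_cancel_left g x, this,
          show ⁅s, g⁻¹ * x⁆ = 1 from commutatorElement_eq_one_iff_mul_comm.mpr (hPc' _ e s), mul_one,
          mul_inv_cancel, mul_one]
        exact h.central s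
    have hdec : ∀ s, s ∈ commutator S ∨ y⁻¹ * s ∈ commutator S := by
      intro s
      by_cases hs : Commute s g
      · exact Or.inl (hcon s hs)
      · refine Or.inr (hcon _ ?_)
        have e5 : s * g * s⁻¹ = y * g * y⁻¹ := (hnc s hs).trans (hnc y hyg).symm
        change y⁻¹ * s * g = g * (y⁻¹ * s)
        calc y⁻¹ * s * g = y⁻¹ * (s * g * s⁻¹) * s := by group
          _ = _ := by rw [e5]; group
    refine h.notMem ?_
    have hle : commutator S ≤ P := by
      rw [_root_.commutator_def, commutator_le]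
      intro s _ t _
      rcases hdec t with ht | ht
      · exact hq s t ht
      rcases hdec s with hs | hs
      · simpa [commutatorElement_inv] using inv_mem (hq t s hs)
      rw [← QuotientGroup.eq_one_iff, ← QuotientGroup.mk'_apply, map_commutatorElement,
        commutatorElement_eq_one_iff_mul_comm]
      have key : ∀ x ∈ commutator S, ∀ r : S, Commute (QuotientGroup.mk' P x) (QuotientGroup.mk' P r) := by
        intro x hx r
        refine Commute.symm (commutatorElement_eq_one_iff_mul_comm.mp ?_)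
        rw [← map_commutatorElement]
        exact (QuotientGroup.eq_one_iff _).mpr (hq r x hx)
      rw [← mul_inv_cancel_left y s, ← mul_inv_cancel_left y t, map_mul, map_mul]
      exact (((Commute.refl (QuotientGroup.mk' P y)).mul_left (key _ hs y)).mul_right
        ((key _ ht _).symm.mul_left (key _ hs _))).eq
    exact hle h.mem

/-- A nontrivial normal subgroup of a finite 2-group has an invariant subgroup of index two above
which it is central. -/
theorem exists_index_two [Finite S] (hS : IsPGroup 2 S) (P : Subgroup S) [P.Normal] (hP : P ≠ ⊥) :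
    ∃ Y : Subgroup S, Y.Normal ∧ Y < P ∧ (∀ w ∈ P, ∀ s : S, ⁅w, s⁆ ∈ Y) ∧
      ∀ w ∈ P, ∀ w' ∈ P, w ∉ Y → w' ∉ Y → w⁻¹ * w' ∈ Y := by
  obtain ⟨Y, hY⟩ := (Set.toFinite {X : Subgroup S | X.Normal ∧ X < P}).exists_maximal
    ⟨⊥, inferInstance, bot_lt_iff_ne_bot.mpr hP⟩
  obtain ⟨hYn, hYP⟩ := hY.1
  let π := QuotientGroup.mk' Y
  have hsurj := QuotientGroup.mk'_surjective Y
  set Pq := P.map π with hPq
  have hPqn : Pq.Normal := (inferInstance : P.Normal).map π hsurj
  have hPq1 : Pq ≠ ⊥ := by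
    intro e
    rw [hPq, Subgroup.map_eq_bot_iff, QuotientGroup.ker_mk'] at e
    exact hYP.not_ge e
  have hmin : ∀ X : Subgroup (S ⧸ Y), X.Normal → X ≤ Pq → X = ⊥ ∨ X = Pq := by
    intro X hX hle
    by_cases e : X = Pq
    · exact Or.inr e
    refine Or.inl ?_
    have hYX : Y ≤ X.comap π := (QuotientGroup.ker_mk' Y).symm.le.trans (ker_le_comap _ _)
    have hXP : X.comap π ≤ P := by
      refine (comap_mono hle).trans ?_
      rw [hPq, comap_map_eq, QuotientGroup.ker_mk']
      exact sup_le le_rfl hYP.le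
    have hle' : X.comap π ≤ Y := hY.2 ⟨hX.comap _, lt_of_le_of_ne hXP fun e' => e (by
      rw [hPq, ← e', map_comap_eq_self_of_surjective hsurj])⟩ hYX
    rw [← map_comap_eq_self_of_surjective hsurj X, Subgroup.map_eq_bot_iff, QuotientGroup.ker_mk']
    exact hle'
  have hSq : IsPGroup 2 (S ⧸ Y) := hS.to_quotient Y
  have : Fact (Nat.Prime 2) := ⟨Nat.prime_two⟩
  have : Group.IsNilpotent (S ⧸ Y) := hSq.isNilpotent
  have hcent : Pq ≤ Subgroup.center (S ⧸ Y) := by
    rcases hmin (Pq ⊓ Subgroup.center (S ⧸ Y)) inferInstance inf_le_left with e | e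
    · exact absurd e (CfsgLib.Transfer.inf_center_ne_bot hPq1)
    · exact e ▸ inf_le_right
  refine ⟨Y, hYn, hYP, fun w hw s => ?_, fun w hw w' hw' hwY hw'Y => ?_⟩
  · rw [← QuotientGroup.eq_one_iff, ← QuotientGroup.mk'_apply, map_commutatorElement,
      commutatorElement_eq_one_iff_mul_comm]
    exact (mem_center_iff.mp (hcent (mem_map_of_mem π hw)) _).symm
  · -- a central minimal normal subgroup has prime order
    obtain ⟨d, hd⟩ := IsPGroup.iff_card.mp (hSq.to_subgroup Pq)
    have hd1 : d ≠ 0 := fun e => hPq1 (eq_bot_of_card_eq _ (by rw [hd, e, pow_zero]))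
    obtain ⟨⟨t, ht⟩, ht2⟩ := exists_prime_orderOf_dvd_card' (G := Pq) 2 (hd ▸ dvd_pow_self 2 hd1)
    rw [Subgroup.orderOf_mk] at ht2
    have hZ : Subgroup.zpowers t = Pq := by
      refine (hmin _ ⟨fun u hu c => ?_⟩ (zpowers_le.mpr ht)).resolve_left fun e => ?_
      · rw [mem_center_iff.mp (hcent (zpowers_le.mpr ht hu)) c, mul_inv_cancel_right]
        exact hu
      · rw [zpowers_eq_bot] at e
        rw [e, orderOf_one] at ht2
        norm_num at ht2
    have key : ∀ u ∈ Pq, u ≠ 1 → u = t := by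
      intro u hu hu1
      rw [← hZ, mem_zpowers_iff] at hu
      obtain ⟨k, rfl⟩ := hu
      rcases Int.even_or_odd k with ⟨j, rfl⟩ | ⟨j, rfl⟩
      · exact absurd (by rw [← two_mul, zpow_mul, zpow_two, ← pow_two, ← ht2, pow_orderOf_eq_one, one_zpow]) hu1
      · rw [zpow_add, zpow_mul, zpow_two, ← pow_two, ← ht2, pow_orderOf_eq_one, one_zpow, one_mul, zpow_one]
    rw [← QuotientGroup.eq]
    exact (key _ (mem_map_of_mem π hw) fun e => hwY ((QuotientGroup.eq_one_iff w).mp e)).trans
      (key _ (mem_map_of_mem π hw') fun e => hw'Y ((QuotientGroup.eq_one_iff w').mp e)).symm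

/-- The second layer is trivial. -/
theorem no_second_layer (h : TwoData P g) (hS : IsPGroup 2 S) (Y : Subgroup S) [Y.Normal]
    (hYP : Y < P) (hcP : ∀ w ∈ P, ∀ s : S, ⁅w, s⁆ ∈ Y)
    (htwoP : ∀ w ∈ P, ∀ w' ∈ P, w ∉ Y → w' ∉ Y → w⁻¹ * w' ∈ Y)
    (hYc : Y ≤ Subgroup.center S) {w : S} (hw : w ∈ Y) (hw1 : w ≠ 1)
    (hY : ∀ v ∈ Y, v = 1 ∨ v = w) : False := by
  have := h.normal
  let π := QuotientGroup.mk' Y
  have hq := h.quotient Y hYP.le
  obtain ⟨z0, hz0P, hz0⟩ := SetLike.exists_of_lt hYP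
  have hPc : P.map π ≤ Subgroup.center (S ⧸ Y) := by
    rintro _ ⟨v, hv, rfl⟩
    refine mem_center_iff.mpr fun c => ?_
    obtain ⟨c, rfl⟩ := QuotientGroup.mk'_surjective Y c
    refine (commutatorElement_eq_one_iff_mul_comm.mp ?_).symm
    rw [← map_commutatorElement]
    exact (QuotientGroup.eq_one_iff _).mpr (hcP v hv c)
  have hback : ∀ x, π x ∈ P.map π → x ∈ P := by
    rintro x ⟨v, hv, e⟩
    have : v⁻¹ * x ∈ P := hYP.le (by
      rw [← QuotientGroup.ker_mk' Y, MonoidHom.mem_ker, map_mul, map_inv, e, inv_mul_cancel])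
    simpa using mul_mem hv this
  obtain ⟨hgg, hsqC, aq, haq, haq'⟩ := hq.core hPc (mem_map_of_mem π hz0P)
    (fun e => hz0 ((QuotientGroup.eq_one_iff z0).mp e)) (by
    rintro _ ⟨v, hv, rfl⟩
    by_cases hvY : v ∈ Y
    · exact Or.inl ((QuotientGroup.eq_one_iff v).mpr hvY)
    · exact Or.inr (QuotientGroup.eq.mpr (htwoP v hv z0 hz0P hvY hz0)))
  obtain ⟨a, rfl⟩ := QuotientGroup.mk'_surjective Y aq
  have hggY : g * g ∉ Y := fun e => hz0 ((QuotientGroup.eq_one_iff z0).mp (by
    rw [← QuotientGroup.mk'_apply, ← hgg, ← map_mul]; exact (QuotientGroup.eq_one_iff _).mpr e))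
  have hYc' : ∀ v ∈ Y, ∀ s : S, s * v = v * s := fun v hv s => mem_center_iff.mp (hYc hv) s
  have hPdec : ∀ v ∈ P, v ∈ Y ∨ (g * g)⁻¹ * v ∈ Y := fun v hv => by
    by_cases hvY : v ∈ Y
    · exact Or.inl hvY
    · exact Or.inr (htwoP _ h.sq_mem v hv hggY hvY)
  have hgP : ∀ v ∈ P, Commute g v := by
    intro v hv
    rcases hPdec v hv with e | e
    · exact hYc' v e g
    · rw [← mul_inv_cancel_left (g * g) v]
      exact ((Commute.refl g).mul_right (Commute.refl g)).mul_right (hYc' _ e g)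
  have hgS : ∀ x ∈ commutator S, Commute g x := by
    intro x hx
    rcases h.two x hx with e | e
    · exact hgP x e
    · rw [← mul_inv_cancel_left g x]
      exact (Commute.refl g).mul_right (hgP _ e)
  -- `a` commutes with `g`
  have hag : Commute a g := by
    have hagY : ⁅a, g⁆ ∈ Y := by
      rw [← QuotientGroup.eq_one_iff, ← QuotientGroup.mk'_apply, map_commutatorElement,
        commutatorElement_eq_one_iff_mul_comm]
      exact haq.eq
    have haP : a * a ∉ P := fun e => hsqC _ haq haq' (by rw [← map_mul]; exact mem_map_of_mem π e)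
    have hgg' : Commute a (g * g) := by
      obtain ⟨v, hv, e⟩ : ∃ v ∈ Y, a * g * a⁻¹ = v * g :=
        ⟨⁅a, g⁆, hagY, by rw [commutatorElement_def, inv_mul_cancel_right]⟩
      have hvv : v * v = 1 := by
        rcases hY v hv with rfl | rfl
        · exact one_mul 1
        · rcases hY _ (mul_mem hv hv) with e' | e'
          · exact e'
          · exact absurd (mul_eq_left.mp e') hw1
      refine mul_inv_eq_iff_eq_mul.mp ?_
      calc a * (g * g) * a⁻¹ = (a * g * a⁻¹) * (a * g * a⁻¹) := by group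
        _ = v * (g * v) * g := by rw [e]; group
        _ = (v * v) * (g * g) := by rw [hYc' v hv g]; group
        _ = g * g := by rw [hvv, one_mul]
    have e3 := (h.two _ (h.sq a)).resolve_left haP
    rcases hPdec _ e3 with e | e
    · have h2 : Commute a (a * a * (g⁻¹ * (a * a))⁻¹) :=
        ((Commute.refl a).mul_right (Commute.refl a)).mul_right (Commute.inv_right (hYc' _ e a))
      simpa [mul_assoc] using h2
    · have h2 : Commute a (a * a * ((g * g)⁻¹ * (g⁻¹ * (a * a)))⁻¹) :=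
        ((Commute.refl a).mul_right (Commute.refl a)).mul_right (Commute.inv_right (hYc' _ e a))
      have h3 : a * a * ((g * g)⁻¹ * (g⁻¹ * (a * a)))⁻¹ = g * (g * g) := by group; simp [pow_succ, mul_assoc]
      rw [h3] at h2
      simpa [mul_assoc] using h2.mul_right hgg'.inv_right
  obtain ⟨c, hc⟩ := h.conj w (hYP.le hw)
  have hcq : Commute (π c) (π g) := by
    refine mul_inv_eq_iff_eq_mul.mp ?_
    rw [← map_inv, ← map_mul, ← map_mul, hc, map_mul,
      show π w = 1 from (QuotientGroup.eq_one_iff w).mpr hw, mul_one]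
  have hcg : ¬ Commute c g := fun e => hw1 (by
    rw [e.eq, mul_inv_cancel_right] at hc; exact mul_eq_left.mp hc.symm)
  have hcomm : (commutator S).map π = commutator (S ⧸ Y) := by
    rw [_root_.commutator_def, _root_.commutator_def, map_commutator,
      map_top_of_surjective _ (QuotientGroup.mk'_surjective Y)]
  have hlift : ∀ x, π x ∈ commutator (S ⧸ Y) → x ∈ commutator S := by
    intro x hx
    rw [← hcomm] at hx
    obtain ⟨v, hv, e⟩ := hx
    have : v⁻¹ * x ∈ commutator S := h.le (hYP.le (by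
      rw [← QuotientGroup.ker_mk' Y, MonoidHom.mem_ker, map_mul, map_inv, e, inv_mul_cancel]))
    simpa using mul_mem hv this
  have hcS : π c ∉ commutator (S ⧸ Y) := fun e => hcg (hgS c (hlift c e)).symm
  have hcaS : π c * π a ∉ commutator (S ⧸ Y) := fun e => hcg (by
    rw [← map_mul] at e
    simpa using (hgS _ (hlift _ e)).symm.mul_left hag.inv_left)
  have hPqn : (P.map π).Normal := h.normal.map π (QuotientGroup.mk'_surjective Y)
  refine hsqC _ (hcq.mul_left haq) hcaS ?_
  -- the square of `c * a` lies in `P`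
  rw [← QuotientGroup.eq_one_iff]
  let ρ := QuotientGroup.mk' (P.map π)
  change ρ (π c * π a * (π c * π a)) = 1
  have hsqg : ∀ x : S ⧸ Y, Commute x (π g) → x ∉ commutator (S ⧸ Y) → ρ (x * x) = ρ (π g) := by
    intro x hx hx'
    exact (QuotientGroup.eq.mpr ((hq.two _ (hq.sq x)).resolve_left (hsqC x hx hx'))).symm
  have hab : ρ (π a) * ρ (π c) = ρ (π c) * ρ (π a) := by
    rw [← commutatorElement_eq_one_iff_mul_comm, ← map_commutatorElement]
    exact (QuotientGroup.eq_one_iff _).mpr (hq.commutator_mem_of_commute hPc (mem_map_of_mem π hz0P)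
      (fun e => hz0 ((QuotientGroup.eq_one_iff z0).mp e)) haq hcq)
  calc ρ (π c * π a * (π c * π a)) = ρ (π c) * (ρ (π a) * ρ (π c)) * ρ (π a) := by
        simp only [map_mul, mul_assoc]
    _ = ρ (π c * π c) * ρ (π a * π a) := by rw [hab]; simp only [map_mul, mul_assoc]
    _ = 1 := by
      rw [hsqg _ hcq hcS, hsqg _ haq haq', ← map_mul]
      exact (QuotientGroup.eq_one_iff _).mpr hq.sq_mem

/-- In the central case `g ^ 4 = 1`. -/
theorem pow_four (h : TwoData P g) [Finite S] (hS : IsPGroup 2 S) : g ^ 4 = 1 := by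
  have := h.normal
  have hg4 : g ^ 4 = (g * g) * (g * g) := by simp [pow_succ, mul_assoc]
  rw [hg4]
  by_cases hP : P = ⊥
  · have := h.sq_mem; rw [hP, mem_bot] at this; rw [this, one_mul]
  obtain ⟨Y1, hY1n, hY1P, hcP, htwoP⟩ := exists_index_two hS P hP
  by_cases hY1 : Y1 = ⊥
  · subst hY1
    by_contra hne
    have h2 : g * g ≠ 1 := fun e => hne (by rw [e, one_mul])
    exact hne (mem_bot.mp (by
      simpa using htwoP _ (inv_mem h.sq_mem) _ h.sq_mem
        (fun e => h2 (by rwa [mem_bot, inv_eq_one] at e)) (fun e => h2 (mem_bot.mp e))))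
  exfalso
  obtain ⟨Y2, hY2n, hY2, hcY, htwoY⟩ := exists_index_two hS Y1 hY1
  let π := QuotientGroup.mk' Y2
  have hsurj := QuotientGroup.mk'_surjective Y2
  obtain ⟨w, hw, hwY⟩ := SetLike.exists_of_lt hY2
  have : (Y1.map π).Normal := hY1n.map π hsurj
  have hback : ∀ x, π x ∈ Y1.map π → x ∈ Y1 := by
    rintro x ⟨v, hv, e⟩
    have : v⁻¹ * x ∈ Y1 := hY2.le (by
      rw [← QuotientGroup.ker_mk' Y2, MonoidHom.mem_ker, map_mul, map_inv, e, inv_mul_cancel])
    simpa using mul_mem hv this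
  refine (h.quotient Y2 (hY2.le.trans hY1P.le)).no_second_layer (hS.to_quotient Y2) (Y1.map π) ?_ ?_ ?_
    ?_ (mem_map_of_mem π hw) (fun e => hwY ((QuotientGroup.eq_one_iff w).mp e)) ?_
  · obtain ⟨x, hx, hxY⟩ := SetLike.exists_of_lt hY1P
    exact lt_of_le_of_ne (map_mono hY1P.le) fun e => hxY (hback x (e ▸ mem_map_of_mem π hx))
  · rintro _ ⟨v, hv, rfl⟩ s
    obtain ⟨s, rfl⟩ := hsurj s
    rw [← map_commutatorElement]; exact mem_map_of_mem π (hcP v hv s)
  · rintro _ ⟨v, hv, rfl⟩ _ ⟨v', hv', rfl⟩ e e'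
    rw [← map_inv, ← map_mul]
    exact mem_map_of_mem π (htwoP v hv v' hv' (fun h => e (mem_map_of_mem π h))
      (fun h => e' (mem_map_of_mem π h)))
  · rintro _ ⟨v, hv, rfl⟩
    refine mem_center_iff.mpr fun c => ?_
    obtain ⟨c, rfl⟩ := hsurj c
    refine (commutatorElement_eq_one_iff_mul_comm.mp ?_).symm
    rw [← map_commutatorElement]
    exact (QuotientGroup.eq_one_iff _).mpr (hcY v hv c)
  · rintro _ ⟨v, hv, rfl⟩
    by_cases hvY : v ∈ Y2
    · exact Or.inl ((QuotientGroup.eq_one_iff v).mpr hvY)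
    · exact Or.inr (QuotientGroup.eq.mpr (htwoY v hv w hw hvY hwY))

end TwoData

/-! ### Solvability -/

/-- Prime order fixed-point-free conjugation. -/
theorem isNilpotent_of_conj_fpf {G : Type u} [Group G] [Finite G] (M : Subgroup G) [M.Normal]
    (p : ℕ) [hp : Fact p.Prime] (x : G) (hx : x ^ p ∈ centralizer (M : Set G))
    (hfpf : ∀ m ∈ M, m * x = x * m → m = 1) : Group.IsNilpotent M := by
  have happ : ∀ m : M, ((MulAut.conjNormal x : MulAut M) m : G) = x * m * x⁻¹ := fun m =>
    MulAut.conjNormal_apply x m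
  by_cases h1 : (MulAut.conjNormal x : MulAut M) = 1
  · have : Subsingleton M := ⟨fun a b => by
      have key : ∀ m : M, m = 1 := fun m => Subtype.ext (hfpf m m.2 (by
        have := happ m
        rw [h1, MulAut.one_apply] at this
        exact (mul_inv_eq_iff_eq_mul.mp this.symm).symm))
      rw [key a, key b]⟩
    infer_instance
  refine Cfsg.Agent.S0033.result (MulAut.conjNormal x : MulAut M) ?_ p hp.out ?_
  · intro m hm
    refine Subtype.ext (hfpf m m.2 ?_)
    have e := happ m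
    have hm' : (MulAut.conjNormal x : MulAut M) m = m := hm
    rw [hm'] at e
    exact (mul_inv_eq_iff_eq_mul.mp e.symm).symm
  · refine orderOf_eq_prime ?_ h1
    rw [← map_pow]
    refine MulEquiv.ext fun m => Subtype.ext ?_
    rw [MulAut.one_apply, MulAut.conjNormal_apply, (hx m m.2).symm, mul_inv_cancel_right]

/-- The central case. -/
theorem isSolvable_central {G : Type u} [Group G] [Finite G] (K : Subgroup G) [K.Normal]
    (hK : K ≤ commutator G) (g : G) (hg : g ∈ commutator G) (hgK : g ∉ K)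
    (hclass : ∀ x ∈ commutator G, x ∉ K → IsConj g x)
    (hZ : ∀ z : G, (∀ y, ⁅z, y⁆ ∈ K) → z ∈ commutator G) (hcent : ∀ y : G, ⁅y, g⁆ ∈ K) :
    Group.IsSolvable G := by
  have h2 : Fact (Nat.Prime 2) := ⟨Nat.prime_two⟩
  set D := commutator G with hD
  have hcommD : ∀ x y : G, ⁅x, y⁆ ∈ D := fun x y => commutator_mem_commutator (mem_top _) (mem_top _)
  have htwo : ∀ x ∈ D, x ∈ K ∨ g⁻¹ * x ∈ K := by
    intro x hx
    by_cases hxK : x ∈ K
    · exact Or.inl hxK
    obtain ⟨c, hc⟩ := isConj_iff.mp (hclass x hx hxK)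
    refine Or.inr ?_
    have h3 : g⁻¹ * ⁅c, g⁆ * g⁻¹⁻¹ ∈ K := ‹K.Normal›.conj_mem _ (hcent c) g⁻¹
    rw [← hc]
    simpa [commutatorElement_def, mul_assoc] using h3
  have hgg : g * g ∈ K := (htwo _ (mul_mem hg hg)).resolve_right (by rwa [inv_mul_cancel_left])
  have hqc : ∀ x ∈ D, ∀ y : G, (y : G ⧸ K) * x = x * y := by
    intro x hx y
    rcases htwo x hx with e | e
    · rw [(QuotientGroup.eq_one_iff x).mpr e, mul_one, one_mul]
    · rw [← (QuotientGroup.eq.mpr e : (g : G ⧸ K) = x), ← commutatorElement_eq_one_iff_mul_comm,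
        ← QuotientGroup.mk'_apply, ← QuotientGroup.mk'_apply, ← map_commutatorElement]
      exact (QuotientGroup.eq_one_iff _).mpr (hcent y)
  have hDsq : ∀ x ∈ D, x * x ∈ K := by
    intro x hx
    rw [← QuotientGroup.eq_one_iff, QuotientGroup.mk_mul]
    rcases htwo x hx with e | e
    · rw [(QuotientGroup.eq_one_iff x).mpr e, one_mul]
    · rw [← (QuotientGroup.eq.mpr e : (g : G ⧸ K) = x), ← QuotientGroup.mk_mul]
      exact (QuotientGroup.eq_one_iff _).mpr hgg
  have hsq : ∀ x : G, x * x ∈ D := fun x => hZ _ fun y => by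
    rw [← QuotientGroup.eq_one_iff]
    calc ((⁅x * x, y⁆ : G) : G ⧸ K)
        = ((x : G ⧸ K) * (⁅x, y⁆ : G)) * (x : G ⧸ K)⁻¹ * (⁅x, y⁆ : G) := by
          simp only [commutatorElement_def, QuotientGroup.mk_mul, QuotientGroup.mk_inv]; group
      _ = ((⁅x, y⁆ * ⁅x, y⁆ : G) : G ⧸ K) := by
          rw [hqc _ (hcommD x y) x, mul_inv_cancel_right, QuotientGroup.mk_mul]
      _ = 1 := (QuotientGroup.eq_one_iff _).mpr (hDsq _ (hcommD x y))
  have hquot : IsPGroup 2 (G ⧸ K) := by
    intro x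
    obtain ⟨x, rfl⟩ := QuotientGroup.mk_surjective x
    refine ⟨2, ?_⟩
    rw [← QuotientGroup.mk_pow, QuotientGroup.eq_one_iff, show x ^ 2 ^ 2 = x * x * (x * x) by simp [pow_succ, mul_assoc]]
    exact hDsq _ (hsq x)
  have hC : Nat.card (centralizer ({g} : Set G)) = K.index := by
    have h1 := CfsgLib.Char.card_isConj_mul_card_centralizer g
    have e : Nat.card {x : G // IsConj g x} = Nat.card K := by
      refine Nat.card_eq_of_bijective (fun x => (⟨g⁻¹ * x.1, ?_⟩ : K)) ⟨fun a b e => ?_, fun k => ?_⟩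
      · obtain ⟨c, hc⟩ := isConj_iff.mp x.2
        have h3 : g⁻¹ * ⁅c, g⁆ * g⁻¹⁻¹ ∈ K := ‹K.Normal›.conj_mem _ (hcent c) g⁻¹
        rw [← hc]
        simpa [commutatorElement_def, mul_assoc] using h3
      · exact Subtype.ext (mul_left_cancel (congrArg Subtype.val e))
      · refine ⟨⟨g * k, hclass _ (mul_mem hg (hK k.2)) fun e => hgK ?_⟩, Subtype.ext (inv_mul_cancel_left g k)⟩
        simpa using mul_mem e (inv_mem k.2)
    rw [e, ← card_mul_index K] at h1
    exact Nat.eq_of_mul_eq_mul_left Nat.card_pos h1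
  obtain ⟨S, M, hgS, hMK, hMS, hMmem, hfpf, hclassS, -⟩ := exists_pComplement 2 K g hgK hquot hC hcent
  have hMn : M.Normal := ⟨fun m hm c => by
    rw [hMmem] at hm ⊢
    refine ⟨‹K.Normal›.conj_mem m hm.1 c, ?_⟩
    rw [show c * m * c⁻¹ = MulAut.conj c m from rfl, MulEquiv.orderOf_eq]
    exact hm.2⟩
  have hdec : ∀ x : G, ∃ m ∈ M, ∃ s ∈ (S : Subgroup G), m * s = x := fun x => by
    obtain ⟨⟨m, s⟩, e⟩ := hMS.2 x
    exact ⟨m, m.2, s, s.2, e⟩
  let θ : (S : Subgroup G) →* G ⧸ M := (QuotientGroup.mk' M).comp (S : Subgroup G).subtype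
  have hθ : Function.Surjective θ := fun x => by
    obtain ⟨x, rfl⟩ := QuotientGroup.mk_surjective x
    obtain ⟨m, hm, s, hs, rfl⟩ := hdec x
    refine ⟨⟨s, hs⟩, ?_⟩
    change (s : G ⧸ M) = ((m * s : G) : G ⧸ M)
    rw [QuotientGroup.mk_mul, (QuotientGroup.eq_one_iff m).mpr hm, one_mul]
  have hθinj : Function.Injective θ := (injective_iff_map_eq_one θ).mpr fun s hs =>
    Subtype.ext (Subgroup.disjoint_def.mp hMS.disjoint ((QuotientGroup.eq_one_iff _).mp hs) s.2)
  -- the derived group of `S`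
  have hS' : ∀ x : (S : Subgroup G), (x : G) ∈ D ↔ x ∈ commutator (S : Subgroup G) := by
    intro x
    constructor
    · intro hx
      have h3 : θ x ∈ (commutator (S : Subgroup G)).map θ := by
        rw [_root_.commutator_def, map_commutator, map_top_of_surjective _ hθ,
          ← map_top_of_surjective _ (QuotientGroup.mk'_surjective M), ← map_commutator,
          ← _root_.commutator_def]
        exact mem_map_of_mem _ hx
      obtain ⟨y, hy, e⟩ := h3
      exact hθinj e ▸ hy
    · intro hx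
      have : commutator (S : Subgroup G) ≤ D.comap (S : Subgroup G).subtype := by
        rw [_root_.commutator_def, commutator_le]
        intro a _ b _
        rw [mem_comap, map_commutatorElement]
        exact hcommD _ _
      exact this hx
  have hdata : TwoData (K.subgroupOf (S : Subgroup G)) (⟨g, hgS⟩ : (S : Subgroup G)) := by
    refine
      { normal := inferInstance
        le := fun x hx => (hS' x).mp (hK hx)
        notMem := hgK
        mem := (hS' _).mp hg
        two := fun x hx => htwo x ((hS' x).mpr hx)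
        central := fun s => by
          rw [mem_subgroupOf, ← subtype_apply, map_commutatorElement]; exact hcent s
        sq := fun x => (hS' _).mp (hsq (x : G))
        center := fun z hz => (hS' z).mp (hZ z fun y => ?_)
        conj := fun w hw => ?_ }
    · obtain ⟨m, hm, s, hs, rfl⟩ := hdec y
      have e : ⁅(z : G), m * s⁆ = ⁅(z : G), m⁆ * (m * ⁅(z : G), s⁆ * m⁻¹) := by
        simp only [commutatorElement_def]; group
      rw [e]
      refine mul_mem (hMK ?_) (‹K.Normal›.conj_mem _ ?_ m)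
      · exact mul_mem (hMn.conj_mem m hm z) (inv_mem hm)
      · have := hz ⟨s, hs⟩
        rwa [mem_subgroupOf, ← subtype_apply, map_commutatorElement] at this
    · obtain ⟨s, hs, e⟩ := hclassS w w.2 hw
      exact ⟨⟨s, hs⟩, Subtype.ext e⟩
  have hg4 : g ^ 4 = 1 := congrArg Subtype.val (hdata.pow_four S.2)
  have hMsol : Group.IsSolvable M := by
    refine isSolvable_of_fpf_four (σ := MulAut.conjNormal g) (by rw [← map_pow, hg4, map_one]) ?_
    intro m hm
    refine Subtype.ext (hfpf m m.2 ?_)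
    have e := congrArg Subtype.val hm
    rw [MulAut.conjNormal_apply, mul_inv_eq_iff_eq_mul] at e
    exact e.symm
  have : Group.IsSolvable (S : Subgroup G) := CfsgLib.Solvable.isSolvable_of_isPGroup S.2
  exact CfsgLib.Solvable.isSolvable_of_normal M hMsol (Group.isSolvable_of_surjective hθ)

/-- The case where `g` is not central modulo `K`. -/
theorem isSolvable_noncentral {G : Type u} [Group G] [Finite G] (K : Subgroup G) [K.Normal]
    (hK : K ≤ commutator G) (g : G) (hg : g ∈ commutator G) (hgK : g ∉ K)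
    (hclass : ∀ x ∈ commutator G, x ∉ K → IsConj g x)
    (hZ : ∀ z : G, (∀ y, ⁅z, y⁆ ∈ K) → z ∈ commutator G) (hnc : ¬ ∀ y : G, ⁅y, g⁆ ∈ K) :
    Group.IsSolvable G := by
  set D := commutator G with hD
  have hDn : D.Normal := inferInstance
  have hcommD : ∀ x y : G, ⁅x, y⁆ ∈ D := fun x y => commutator_mem_commutator (mem_top _) (mem_top _)
  let π := QuotientGroup.mk' K
  have hsurj := QuotientGroup.mk'_surjective K
  set Dq := D.map π with hDq
  have hDqn : Dq.Normal := hDn.map π hsurj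
  have hback : ∀ x, π x ∈ Dq → x ∈ D := by
    rintro x ⟨v, hv, e⟩
    have : v⁻¹ * x ∈ D := hK (by
      rw [← QuotientGroup.ker_mk' K, MonoidHom.mem_ker, map_mul, map_inv, e, inv_mul_cancel])
    simpa using mul_mem hv this
  have hgq : π g ∈ Dq := mem_map_of_mem π hg
  have hgq1 : π g ≠ 1 := fun e => hgK ((QuotientGroup.eq_one_iff g).mp e)
  have hqclass : ∀ x ∈ Dq, x ≠ 1 → IsConj (π g) x := by
    rintro _ ⟨x, hx, rfl⟩ hx1
    exact π.map_isConj (hclass x hx fun e => hx1 ((QuotientGroup.eq_one_iff x).mpr e))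
  obtain ⟨p, hp', hDp, hDpow, hDab⟩ := elementary_of_single_class Dq (π g) hgq hgq1 hqclass
  have hp : Fact p.Prime := ⟨hp'⟩
  -- the centraliser of `π g`
  set C := centralizer ({π g} : Set (G ⧸ K)) with hCdef
  have hDC : Dq ≤ C := fun x hx => mem_centralizer_singleton_iff.mpr (hDab x hx _ hgq)
  have hCn : C.Normal := ⟨fun x hx c => by
    have hxc : c * x * c⁻¹ = x * ⁅x⁻¹, c⁆ := by simp only [commutatorElement_def]; group
    rw [hxc]
    refine mul_mem hx (hDC ?_)
    obtain ⟨x', rfl⟩ := hsurj x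
    obtain ⟨c', rfl⟩ := hsurj c
    rw [← map_inv, ← map_commutatorElement]
    exact mem_map_of_mem π (hcommD _ _)⟩
  have hCall : ∀ x ∈ Dq, x ≠ 1 → ∀ y, (y * x = x * y ↔ y ∈ C) := by
    intro x hx hx1 y
    obtain ⟨c, hc⟩ := isConj_iff.mp (hqclass x hx hx1)
    subst hc
    constructor
    · intro e
      have h2 : c⁻¹ * y * c ∈ C := mem_centralizer_singleton_iff.mpr (by
        calc c⁻¹ * y * c * π g = c⁻¹ * (y * (c * π g * c⁻¹)) * c := by group
          _ = c⁻¹ * ((c * π g * c⁻¹) * y) * c := by rw [e]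
          _ = _ := by group)
      simpa [mul_assoc] using hCn.conj_mem _ h2 c
    · intro hy
      have h2 : c⁻¹ * y * c⁻¹⁻¹ ∈ C := hCn.conj_mem y hy c⁻¹
      rw [inv_inv] at h2
      have h3 := mem_centralizer_singleton_iff.mp h2
      calc y * (c * π g * c⁻¹) = c * ((c⁻¹ * y * c) * π g) * c⁻¹ := by group
        _ = c * (π g * (c⁻¹ * y * c)) * c⁻¹ := by rw [h3]
        _ = _ := by group
  obtain ⟨y0, hy0⟩ : ∃ y, y ∉ C := by
    by_contra hcon
    push Not at hcon
    refine hnc fun y => ?_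
    rw [← QuotientGroup.eq_one_iff, ← QuotientGroup.mk'_apply, map_commutatorElement,
      commutatorElement_eq_one_iff_mul_comm]
    exact mem_centralizer_singleton_iff.mp (hcon (π y))
  have hCD : C ≤ Dq := by
    intro c hc
    let ψ : Dq → Dq := fun n => ⟨(n : G ⧸ K) * (y0 * (n : G ⧸ K)⁻¹ * y0⁻¹),
      mul_mem n.2 (hDqn.conj_mem _ (inv_mem n.2) y0)⟩
    have hψ : Function.Surjective ψ := Finite.injective_iff_surjective.mp fun n n' e => by
      have e' : (n : G ⧸ K) * (y0 * (n : G ⧸ K)⁻¹ * y0⁻¹) =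
          (n' : G ⧸ K) * (y0 * (n' : G ⧸ K)⁻¹ * y0⁻¹) := congrArg Subtype.val e
      by_contra hne
      refine hy0 ((hCall _ (mul_mem (inv_mem n'.2) n.2) (fun e1 => hne
        (Subtype.ext (inv_mul_eq_one.mp e1).symm)) y0).mp ?_)
      calc y0 * ((n' : G ⧸ K)⁻¹ * n)
          = (n' : G ⧸ K)⁻¹ * ((n' : G ⧸ K) * (y0 * (n' : G ⧸ K)⁻¹ * y0⁻¹)) * y0 * n := by group
        _ = (n' : G ⧸ K)⁻¹ * ((n : G ⧸ K) * (y0 * (n : G ⧸ K)⁻¹ * y0⁻¹)) * y0 * n := by rw [e']
        _ = _ := by group
    have hcy : c * (y0 * c⁻¹ * y0⁻¹) ∈ Dq := by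
      obtain ⟨c', rfl⟩ := hsurj c
      obtain ⟨y', rfl⟩ := hsurj y0
      simp only [← map_inv, ← map_mul]
      refine mem_map_of_mem π ?_
      have := hcommD c' y'
      simpa [commutatorElement_def, mul_assoc] using this
    obtain ⟨⟨m, hm⟩, hme⟩ := hψ ⟨_, hcy⟩
    have hme' : m * (y0 * m⁻¹ * y0⁻¹) = c * (y0 * c⁻¹ * y0⁻¹) := congrArg Subtype.val hme
    set x := m⁻¹ * c with hx
    have hxy : y0 * x = x * y0 := by
      calc y0 * x = m⁻¹ * (m * (y0 * m⁻¹ * y0⁻¹)) * y0 * c := by rw [hx]; group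
        _ = m⁻¹ * (c * (y0 * c⁻¹ * y0⁻¹)) * y0 * c := by rw [hme']
        _ = x * y0 := by rw [hx]; group
    have hxC : x ∈ C := mul_mem (inv_mem (hDC hm)) hc
    have hxD : ∀ d ∈ Dq, x * d = d * x := fun d hd => by
      by_cases hd1 : d = 1
      · rw [hd1, mul_one, one_mul]
      · exact (hCall d hd hd1 x).mpr hxC
    have hxZ : ∀ z : G ⧸ K, ⁅x, z⁆ = 1 := by
      intro z
      have hxzD : ∀ u v : G ⧸ K, ⁅u, v⁆ ∈ Dq := fun u v => by
        obtain ⟨u, rfl⟩ := hsurj u
        obtain ⟨v, rfl⟩ := hsurj v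
        rw [← map_commutatorElement]; exact mem_map_of_mem π (hcommD u v)
      by_contra hne
      refine hy0 ((hCall _ (hxzD x z) hne y0).mp ?_)
      set d := ⁅y0, z⁆ with hd
      refine mul_inv_eq_iff_eq_mul.mp ?_
      calc y0 * ⁅x, z⁆ * y0⁻¹ = ⁅y0 * x * y0⁻¹, y0 * z * y0⁻¹⁆ := by
            simp only [commutatorElement_def]; group
        _ = ⁅x, d * z⁆ := by
          rw [hxy, mul_inv_cancel_right, hd, commutatorElement_def y0 z, inv_mul_cancel_right]
        _ = (x * d) * (z * x⁻¹ * z⁻¹) * d⁻¹ := by simp only [commutatorElement_def]; group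
        _ = d * ⁅x, z⁆ * d⁻¹ := by
          rw [hxD d (hxzD _ _)]; simp only [commutatorElement_def]; group
        _ = ⁅x, z⁆ := by rw [hDab d (hxzD _ _) _ (hxzD x z), mul_inv_cancel_right]
    have hxDq : x ∈ Dq := by
      obtain ⟨x', hx'⟩ := hsurj x
      rw [← hx']
      refine mem_map_of_mem π (hZ x' fun y => ?_)
      rw [← QuotientGroup.eq_one_iff, ← QuotientGroup.mk'_apply, map_commutatorElement, hx']
      exact hxZ _
    have := mul_mem hm hxDq
    rwa [hx, mul_inv_cancel_left] at this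
  have hCeq : C = Dq := le_antisymm hCD hDC
  -- numbers
  obtain ⟨n, hn⟩ := IsPGroup.iff_card.mp hDp
  have hDcard : Nat.card D = p ^ n * Nat.card K := by
    rw [← hn, card_map_mk_mul K D hK]
  have hDidx : D.index = p ^ n - 1 := by
    have h1 := CfsgLib.Char.card_isConj_mul_card_centralizer (π g)
    have e : Nat.card {x : G ⧸ K // IsConj (π g) x} = p ^ n - 1 := by
      rw [← hn, Nat.card_congr (Equiv.subtypeEquivRight fun x =>
        (⟨fun hx => ?_, fun hx => hqclass x hx.1 hx.2⟩ : IsConj (π g) x ↔ x ∈ (Dq : Set (G ⧸ K)) ∧ x ≠ 1))]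
      · change Nat.card ↥((Dq : Set (G ⧸ K)) \ {1}) = _
        rw [Nat.card_coe_set_eq, Set.ncard_sdiff (by simp [one_mem]), Set.ncard_singleton,
          ← Nat.card_coe_set_eq]
        rfl
      · obtain ⟨c, hc⟩ := isConj_iff.mp hx
        refine ⟨hc ▸ hDqn.conj_mem _ hgq c, fun e => hgq1 ?_⟩
        rw [e, conj_eq_one_iff] at hc
        exact hc
    rw [e, ← hCdef, hCeq, hn, ← card_mul_index Dq, hn, mul_comm] at h1
    rw [← index_map_eq D hsurj (by rwa [QuotientGroup.ker_mk']), ← hDq]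
    exact (Nat.eq_of_mul_eq_mul_left (pow_pos hp'.pos n) h1).symm
  have hcentC : Nat.card (centralizer ({g} : Set G)) = p ^ n := by
    have h1 := CfsgLib.Char.card_isConj_mul_card_centralizer g
    have e : Nat.card {x : G // IsConj g x} + Nat.card K = Nat.card D := by
      rw [Nat.card_congr (Equiv.subtypeEquivRight fun x =>
        (⟨fun hx => ?_, fun hx => hclass x hx.1 hx.2⟩ : IsConj g x ↔ x ∈ (D : Set G) ∧ x ∉ (K : Set G)))]
      · change Nat.card ↥((D : Set G) \ (K : Set G)) + _ = _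
        rw [Nat.card_coe_set_eq, ← SetLike.coe_sort_coe K, Nat.card_coe_set_eq,
          Set.ncard_sdiff_add_ncard_of_subset (SetLike.coe_subset_coe.mpr hK), ← Nat.card_coe_set_eq]
        rfl
      · obtain ⟨c, hc⟩ := isConj_iff.mp hx
        refine ⟨hc ▸ hDn.conj_mem _ hg c, fun e => hgK ?_⟩
        have := ‹K.Normal›.conj_mem _ e c⁻¹
        rw [← hc] at this
        simpa [mul_assoc] using this
    have e' : Nat.card {x : G // IsConj g x} = (p ^ n - 1) * Nat.card K := by
      rw [Nat.sub_mul, one_mul, ← hDcard]; omega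
    rw [e', ← card_mul_index D, hDcard, hDidx] at h1
    have hq : 0 < p ^ n - 1 := hDidx ▸ Nat.pos_of_ne_zero index_ne_zero_of_finite
    exact Nat.eq_of_mul_eq_mul_left (Nat.mul_pos hq Nat.card_pos) (h1.trans (by ring))
  have hCleD : centralizer ({g} : Set G) ≤ D := fun x hx => hback x (hCD
    (mem_centralizer_singleton_iff.mpr (by
      rw [← map_mul, ← map_mul, mem_centralizer_singleton_iff.mp hx])))
  -- inside `D`
  let K' := K.subgroupOf D
  have hK'idx : K'.index = p ^ n := by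
    refine Nat.eq_of_mul_eq_mul_left (Nat.card_pos (α := K')) ?_
    rw [card_mul_index, hDcard, Nat.card_congr (subgroupOfEquivOfLe hK).toEquiv, mul_comm]
  have hquot' : IsPGroup p (D ⧸ K') := IsPGroup.of_card (by rw [← index_eq_card, hK'idx])
  have hC' : Nat.card (centralizer ({(⟨g, hg⟩ : D)} : Set D)) = K'.index := by
    rw [hK'idx, ← hcentC, ← Nat.card_congr (subgroupOfEquivOfLe hCleD).toEquiv]
    refine congrArg (fun L : Subgroup D => Nat.card L) (SetLike.ext fun x => ?_)
    simp only [mem_subgroupOf, mem_centralizer_singleton_iff, Subtype.ext_iff, Subgroup.coe_mul]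
  have hDquot : ∀ a ∈ D, ∀ b ∈ D, ⁅a, b⁆ ∈ K := by
    intro a ha b hb
    rw [← QuotientGroup.eq_one_iff, ← QuotientGroup.mk'_apply, map_commutatorElement,
      commutatorElement_eq_one_iff_mul_comm]
    exact hDab _ (mem_map_of_mem π ha) _ (mem_map_of_mem π hb)
  obtain ⟨S, M, hgS, hMK, hMS, hMmem, hfpf, -, -⟩ := exists_pComplement p K' (⟨g, hg⟩ : D) hgK hquot'
    hC' (fun h => by rw [mem_subgroupOf, ← subtype_apply, map_commutatorElement]; exact hDquot _ h.2 _ hg)
  set Sg := (S : Subgroup D).map D.subtype with hSg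
  set Mg := M.map D.subtype with hMg
  have hSD : Sg ≤ D := map_subtype_le _
  have hMD : Mg ≤ D := map_subtype_le _
  have hMKg : Mg ≤ K := by rintro _ ⟨x, hx, rfl⟩; exact hMK hx
  have hMmemG : ∀ m, m ∈ Mg ↔ m ∈ K ∧ ¬ p ∣ orderOf m := by
    intro m
    constructor
    · rintro ⟨x, hx, rfl⟩
      replace hx := (hMmem x).mp hx
      exact ⟨hx.1, by rw [subtype_apply, Subgroup.orderOf_coe]; exact hx.2⟩
    · rintro ⟨hmK, hm⟩
      exact ⟨⟨m, hK hmK⟩, (hMmem _).mpr ⟨hmK, by rwa [Subgroup.orderOf_mk]⟩, rfl⟩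
  have hMgn : Mg.Normal := ⟨fun m hm c => by
    rw [hMmemG] at hm ⊢
    refine ⟨‹K.Normal›.conj_mem m hm.1 c, ?_⟩
    rw [show c * m * c⁻¹ = MulAut.conj c m from rfl, MulEquiv.orderOf_eq]
    exact hm.2⟩
  have hSMbot : ∀ x, x ∈ Sg → x ∈ Mg → x = 1 := by
    rintro _ ⟨s, hs, rfl⟩ ⟨m, hm, e⟩
    have := Subgroup.subtype_injective D e
    subst this
    exact congrArg Subtype.val (Subgroup.disjoint_def.mp hMS.disjoint hm hs)
  have hfpfG : ∀ m ∈ Mg, m * g = g * m → m = 1 := by
    rintro _ ⟨m, hm, rfl⟩ e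
    exact congrArg Subtype.val (hfpf m hm (Subtype.ext e))
  have hdec : ∀ d ∈ D, ∃ s ∈ Sg, ∃ m ∈ Mg, s * m = d := by
    intro d hd
    obtain ⟨⟨m, s⟩, e⟩ := hMS.2 ⟨d, hd⟩
    have e' : ((m : D) : G) * ((s : D) : G) = d := congrArg Subtype.val e
    exact ⟨_, mem_map_of_mem _ s.2, ((s : D) : G)⁻¹ * ((m : D) : G) * ((s : D) : G)⁻¹⁻¹,
      hMgn.conj_mem _ (mem_map_of_mem _ m.2) _, by rw [← e', subtype_apply]; group⟩
  let N := Subgroup.normalizer (Sg : Set G)
  have hNtop : N ⊔ D = ⊤ := Sylow.normalizer_sup_eq_top S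
  have hSN : Sg ≤ N := le_normalizer
  have hND : ∀ x ∈ N, x ∈ D → x ∈ Sg := by
    intro x hxN hxD
    obtain ⟨s, hs, m, hm, rfl⟩ := hdec x hxD
    have hmN : m ∈ N := by simpa using mul_mem (inv_mem (hSN hs)) hxN
    have hgSg : g ∈ Sg := ⟨_, hgS, rfl⟩
    have h1 : m * g * m⁻¹ * g⁻¹ ∈ Sg :=
      mul_mem ((mem_normalizer_iff.mp hmN g).mp hgSg) (inv_mem hgSg)
    have h2 : m * g * m⁻¹ * g⁻¹ ∈ Mg := by
      rw [mul_assoc m, mul_assoc m]
      exact mul_mem hm (hMgn.conj_mem _ (inv_mem hm) g)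
    have h3 : m = 1 := hfpfG m hm (mul_inv_eq_iff_eq_mul.mp (mul_inv_eq_one.mp (hSMbot _ h1 h2)))
    rw [h3, mul_one]; exact hs
  set S0 := Sg.subgroupOf N with hS0
  set P0 := K.subgroupOf N ⊓ S0 with hP0
  have hS0D : S0 = D.subgroupOf N := by
    refine SetLike.ext fun x => ⟨fun hx => hSD hx, fun hx => hND x x.2 hx⟩
  have hS0p : IsPGroup p S0 := by
    rw [hS0]
    exact (S.2.map _).of_equiv (subgroupOfEquivOfLe hSN).symm
  have hgN : g ∈ N := hSN ⟨_, hgS, rfl⟩
  have hdata : ClassData p n S0 P0 (⟨g, hgN⟩ : N) := by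
    have hS0n : S0.Normal := hS0D ▸ inferInstance
    refine
      { normal := hS0n
        normalP := inferInstance
        le := inf_le_right
        pgroup := hS0p
        comm := ?_
        card_eq := ?_
        index_eq := ?_
        mem := ⟨_, hgS, rfl⟩
        notMem := fun e => hgK e.1
        conj := ?_
        quot := ?_
        pow := ?_ }
    · rw [hS0D, _root_.commutator_def, commutator_le]
      intro a _ b _
      rw [mem_subgroupOf, ← subtype_apply, map_commutatorElement]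
      exact hcommD _ _
    · have h1 : P0.relIndex S0 = p ^ n := by
        rw [hP0, inf_relIndex_right, relIndex_subgroupOf hSN, ← relIndex_sup_right Sg K]
        have : K ⊔ Sg = D := le_antisymm (sup_le hK hSD) fun d hd => by
          obtain ⟨s, hs, m, hm, rfl⟩ := hdec d hd
          exact mul_mem (mem_sup_right hs) (mem_sup_left (hMKg hm))
        rw [sup_comm, this]
        exact hK'idx
      rw [← relIndex_bot_left, ← relIndex_mul_relIndex ⊥ P0 S0 bot_le inf_le_right, h1,
        relIndex_bot_left, mul_comm]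
    · rw [hS0D, ← hDidx]
      change D.relIndex N = D.index
      rw [← relIndex_sup_right N D, hNtop, relIndex_top_right]
    · rintro ⟨x, hxN⟩ hxS hxP
      have hxK : x ∉ K := fun e => hxP ⟨e, hxS⟩
      obtain ⟨c, hc⟩ := isConj_iff.mp (hclass x (hSD hxS) hxK)
      obtain ⟨u, hu, d, hd, rfl⟩ :=
        mem_sup_of_normal_right.mp (show c ∈ N ⊔ D by rw [hNtop]; exact mem_top _)
      obtain ⟨s, hs, m, hm, rfl⟩ := hdec d hd
      have hu' : u * s ∈ N := mul_mem hu (hSN hs)
      have hconj : m * g * m⁻¹ = (u * s)⁻¹ * x * (u * s) := by rw [← hc]; group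
      have hS1 : m * g * m⁻¹ * g⁻¹ ∈ Sg := by
        refine mul_mem ?_ (inv_mem ⟨_, hgS, rfl⟩)
        rw [hconj]
        simpa using (mem_normalizer_iff.mp (inv_mem hu') x).mp hxS
      have hM1 : m * g * m⁻¹ * g⁻¹ ∈ Mg := by
        rw [mul_assoc m, mul_assoc m]
        exact mul_mem hm (hMgn.conj_mem _ (inv_mem hm) g)
      have h3 := mul_inv_eq_one.mp (hSMbot _ hS1 hM1)
      refine isConj_iff.mpr ⟨⟨u * s, hu'⟩, Subtype.ext ?_⟩
      change u * s * g * (u * s)⁻¹ = x
      rw [← h3, hconj]; group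
    · intro a ha b hb
      refine Subgroup.mem_inf.mpr ⟨?_, mul_mem (mul_mem (mul_mem ha hb) (inv_mem ha)) (inv_mem hb)⟩
      rw [mem_subgroupOf, ← subtype_apply, map_commutatorElement]
      exact hDquot _ (hSD ha) _ (hSD hb)
    · intro s hs
      refine Subgroup.mem_inf.mpr ⟨?_, pow_mem hs p⟩
      rw [mem_subgroupOf, SubmonoidClass.coe_pow, ← QuotientGroup.eq_one_iff,
        QuotientGroup.mk_pow]
      exact hDpow _ (mem_map_of_mem π (hSD hs))
  -- facts in `G`
  set P := K ⊓ Sg with hP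
  have hPmem : ∀ w, ∀ hw : w ∈ P, (⟨w, hSN hw.2⟩ : N) ∈ P0 := fun w hw => ⟨hw.1, hw.2⟩
  have hPcent : ∀ w ∈ P, ∀ s ∈ Sg, s * w = w * s := fun w hw s hs =>
    congrArg Subtype.val (hdata.le_centralizer (hPmem w hw) ⟨s, hSN hs⟩ hs)
  have hPpow : ∀ w ∈ P, w ^ p = 1 := fun w hw => congrArg Subtype.val (hdata.pow_eq_one (hPmem w hw))
  have hgSg : g ∈ Sg := ⟨_, hgS, rfl⟩
  have hSpow : ∀ s ∈ Sg, s ^ p ∈ P := fun s hs => by
    have := hdata.pow ⟨s, hSN hs⟩ hs
    exact ⟨this.1, this.2⟩
  have hfree : ∀ x ∈ Sg, x ∉ K → ∀ m ∈ Mg, m * x = x * m → m = 1 := by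
    intro x hx hxK m hm e
    obtain ⟨c, hc⟩ := isConj_iff.mp (hclass x (hSD hx) hxK)
    subst hc
    have h1 : c⁻¹ * m * c⁻¹⁻¹ = 1 := hfpfG _ (hMgn.conj_mem m hm c⁻¹) (by
      calc c⁻¹ * m * c⁻¹⁻¹ * g = c⁻¹ * (m * (c * g * c⁻¹)) * c := by group
        _ = c⁻¹ * ((c * g * c⁻¹) * m) * c := by rw [e]
        _ = _ := by group)
    exact conj_eq_one_iff.mp h1
  set t := g ^ p with ht
  have htP : t ∈ P := hSpow g hgSg
  have hMnil : Group.IsNilpotent Mg := by
    by_cases htM : t ∈ centralizer (Mg : Set G)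
    · exact isNilpotent_of_conj_fpf Mg p g htM hfpfG
    refine isNilpotent_of_conj_fpf Mg p t ?_ ?_
    · rw [hPpow t htP]; exact one_mem _
    set F := Mg ⊓ centralizer ({t} : Set G) with hF
    have hFM : F ≤ Mg := inf_le_left
    have hnormF : ∀ x ∈ Sg, x ∈ Subgroup.normalizer (F : Set G) := by
      have hle : ∀ x ∈ Sg, ∀ f ∈ F, x * f * x⁻¹ ∈ F := by
        intro x hx f hf
        refine mem_inf.mpr ⟨hMgn.conj_mem f (hFM hf) x, mem_centralizer_singleton_iff.mpr ?_⟩
        have e1 := hPcent t htP x hx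
        have e2 := mem_centralizer_singleton_iff.mp hf.2
        have e3 : x⁻¹ * t = t * x⁻¹ := hPcent t htP x⁻¹ (inv_mem hx)
        calc x * f * x⁻¹ * t = x * f * (x⁻¹ * t) := by group
          _ = x * (f * t) * x⁻¹ := by rw [e3]; group
          _ = (x * t) * f * x⁻¹ := by rw [e2]; group
          _ = t * (x * f * x⁻¹) := by rw [e1]; group
      intro x hx
      refine mem_normalizer_iff.mpr fun f => ⟨fun hf => hle x hx f hf, fun hf => ?_⟩
      have := hle x⁻¹ (inv_mem hx) _ hf
      simpa [mul_assoc] using this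
    have hFr : ¬ p ∣ Nat.card F := by
      intro hd
      obtain ⟨x, hx⟩ := exists_prime_orderOf_dvd_card' (G := F) p hd
      exact ((hMmemG _).mp (hFM x.2)).2 (by rw [Subgroup.orderOf_coe, hx])
    have htF : t ∈ centralizer (F : Set G) := fun f hf => mem_centralizer_singleton_iff.mp hf.2
    have hFP : ∀ w ∈ P, ∀ f ∈ F, f * w = w * f := by
      intro w hw
      have h1 : F ≤ F ⊓ centralizer ({w} : Set G) := by
        refine CfsgLib.Solvable.le_of_lines_centralizer_le (r := p) (a := g) (b := w)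
          (hPcent w hw g hgSg) (hnormF g hgSg) (hnormF w hw.2) hFr htF
          (by rw [hPpow w hw]; exact one_mem _) (fun i => ?_) le_rfl
        intro f hf
        rw [hfree _ (mul_mem hgSg (pow_mem hw.2 i)) (fun e => hgK (by
            simpa using mul_mem e (inv_mem (pow_mem hw.1 i)))) f (hFM hf.1)
          (mem_centralizer_singleton_iff.mp hf.2)]
        exact one_mem _
      exact fun f hf => mem_centralizer_singleton_iff.mp (h1 hf).2
    have hFbot : F = ⊥ := by
      obtain ⟨s, hs, hsout⟩ : ∃ s ∈ Sg, ∀ k : ℕ, ∀ w ∈ P, s ≠ g ^ k * w := by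
        by_contra hcon
        push Not at hcon
        refine htM ?_
        have hab : ∀ a ∈ Sg, ∀ b ∈ Sg, a * b = b * a := by
          intro a ha b hb
          obtain ⟨i, u, hu, rfl⟩ := hcon a ha
          obtain ⟨j, v, hv, rfl⟩ := hcon b hb
          have c1 : Commute (g ^ i) v := (show Commute g v from hPcent v hv g hgSg).pow_left i
          have c2 : Commute u (g ^ j) := ((show Commute g u from hPcent u hu g hgSg).pow_left j).symm
          have c3 : Commute u v := hPcent v hv u hu.2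
          exact (((Commute.refl g).pow_pow i j).mul_right c1).mul_left (c2.mul_right c3) |>.eq
        have h0 : P0 = ⊥ := by
          rw [hdata.eq_commutator, commutator_eq_bot_iff_le_centralizer]
          exact fun a ha b hb => Subtype.ext (hab _ hb _ ha)
        have := hPmem t htP
        rw [h0, mem_bot] at this
        rw [show t = 1 from congrArg Subtype.val this]
        exact one_mem _
      set H0 := centralizer (P : Set G) with hH0
      have hSH : Sg ≤ H0 := fun x hx w hw => (hPcent w hw x hx).symm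
      have hPH : P ≤ H0 := inf_le_right.trans hSH
      have hFH : F ≤ H0 := fun f hf w hw => (hFP w hw f hf).symm
      set Z := P.subgroupOf H0 with hZdef
      have hZn : Z.Normal := ⟨fun z hz c => by
        have e : c * z * c⁻¹ = z := Subtype.ext (by
          change (c : G) * z * (c : G)⁻¹ = z
          rw [← (c.2 z hz), mul_inv_cancel_right])
        rwa [e]⟩
      let ρ := QuotientGroup.mk' Z
      set Fq := (F.subgroupOf H0).map ρ with hFq
      have hnq : ∀ x : H0, (x : G) ∈ Sg → ρ x ∈ Subgroup.normalizer (Fq : Set _) := by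
        intro x hx
        refine le_normalizer_map ρ (mem_map_of_mem ρ ?_)
        refine mem_normalizer_iff.mpr fun f => ?_
        exact (mem_normalizer_iff.mp (hnormF x hx) f)
      have hone : ∀ w ∈ P, ∀ hw : w ∈ H0, ρ ⟨w, hw⟩ = 1 := fun w hw _ =>
        (QuotientGroup.eq_one_iff _).mpr hw
      have hline : ∀ x : H0, (x : G) ∈ Sg → (x : G) ∉ K → Fq ⊓ centralizer {ρ x} ≤ ⊥ := by
        rintro x hx hxK _ ⟨⟨f, hf, rfl⟩, hfx⟩
        have e := commutatorElement_eq_one_iff_mul_comm.mpr (mem_centralizer_singleton_iff.mp hfx)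
        rw [← map_commutatorElement, ← MonoidHom.mem_ker, QuotientGroup.ker_mk', hZdef,
          mem_subgroupOf, ← subtype_apply, map_commutatorElement] at e
        have hM : ⁅(f : G), (x : G)⁆ ∈ Mg := by
          rw [commutatorElement_def, mul_assoc (f : G), mul_assoc (f : G)]
          exact mul_mem (hFM hf) (hMgn.conj_mem _ (inv_mem (hFM hf)) x)
        have h1 := hSMbot _ e.2 hM
        rw [commutatorElement_eq_one_iff_mul_comm] at h1
        rw [mem_bot, show f = 1 from Subtype.ext (hfree _ hx hxK f (hFM hf) h1), map_one]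
      have hcard : ¬ p ∣ Nat.card Fq := fun hd => hFr (by
        have := hd.trans (card_map_dvd (F.subgroupOf H0) ρ)
        rwa [Nat.card_congr (subgroupOfEquivOfLe hFH).toEquiv] at this)
      have hab : Commute (ρ ⟨g, hSH hgSg⟩) (ρ ⟨s, hSH hs⟩) := by
        refine commutatorElement_eq_one_iff_mul_comm.mp ?_
        rw [← map_commutatorElement]
        refine (QuotientGroup.eq_one_iff _).mpr ?_
        rw [hZdef, mem_subgroupOf, ← subtype_apply, map_commutatorElement]
        exact Subgroup.mem_inf.mpr ⟨hDquot _ (hSD hgSg) _ (hSD hs),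
          mul_mem (mul_mem (mul_mem hgSg hs) (inv_mem hgSg)) (inv_mem hs)⟩
      have hbot : Fq ≤ ⊥ := by
        refine CfsgLib.Solvable.le_of_lines_centralizer_le (r := p) hab (hnq _ hgSg) (hnq _ hs) hcard
          ?_ ?_ (fun i => ?_) (hline _ hs ?_)
        · rw [← map_pow, show (⟨g, hSH hgSg⟩ : H0) ^ p = ⟨g ^ p, hPH htP⟩ from rfl,
            hone _ htP]
          exact one_mem _
        · rw [← map_pow, show (⟨s, hSH hs⟩ : H0) ^ p = ⟨s ^ p, hPH (hSpow s hs)⟩ from rfl,
            hone _ (hSpow s hs)]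
          exact one_mem _
        · rw [← map_pow, ← map_mul]
          refine hline _ (mul_mem hgSg (pow_mem hs i)) fun e => ?_
          by_cases hi : p ∣ i
          · obtain ⟨j, rfl⟩ := hi
            refine hgK ?_
            have h1 : s ^ (p * j) ∈ K := by rw [pow_mul]; exact pow_mem (hSpow s hs).1 j
            simpa using mul_mem (show g * s ^ (p * j) ∈ K from e) (inv_mem h1)
          · obtain ⟨k, hk1, hk2⟩ := Nat.chineseRemainder
              ((hp'.coprime_iff_not_dvd.mpr hi).symm) 0 1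
            obtain ⟨m', hm'⟩ := Nat.dvd_of_mod_eq_zero (show k % i = 0 by simpa [Nat.ModEq] using hk1)
            -- `s ^ k ≡ s` and `s ^ i ≡ g⁻¹` modulo `P`
            have e1 : (s : G ⧸ K) ^ i = (g : G ⧸ K)⁻¹ := by
              rw [← QuotientGroup.mk_pow]
              refine eq_inv_of_mul_eq_one_right ?_
              rw [← QuotientGroup.mk_mul]
              exact (QuotientGroup.eq_one_iff _).mpr e
            have e2 : (s : G ⧸ K) ^ p = 1 := hDpow _ (mem_map_of_mem π (hSD hs))
            have e3 : (g : G ⧸ K) ^ p = 1 := hDpow _ hgq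
            have e4 : (s : G ⧸ K) = (g : G ⧸ K) ^ ((p - 1) * m') := by
              calc (s : G ⧸ K) = (s : G ⧸ K) ^ k := by
                    have : k % p = 1 := (show k % p = 1 % p from hk2).trans (Nat.one_mod_eq_one.mpr hp'.ne_one)
                    rw [pow_eq_pow_mod k e2, this, pow_one]
                _ = ((g : G ⧸ K)⁻¹) ^ m' := by rw [hm', pow_mul, e1]
                _ = (g : G ⧸ K) ^ ((p - 1) * m') := by
                  rw [pow_mul]
                  refine congrArg (· ^ m') (inv_eq_of_mul_eq_one_right ?_)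
                  rw [← pow_succ', Nat.sub_add_cancel hp'.pos, e3]
            refine hsout ((p - 1) * m') ((g ^ ((p - 1) * m'))⁻¹ * s)
              (Subgroup.mem_inf.mpr ⟨?_, mul_mem (inv_mem (pow_mem hgSg _)) hs⟩) (mul_inv_cancel_left _ _).symm
            rw [← QuotientGroup.mk_pow] at e4
            exact QuotientGroup.eq.mp e4.symm
        · exact fun e => hsout 0 s ⟨e, hs⟩ (by simp)
      rw [Subgroup.eq_bot_iff_forall]
      intro f hf
      have : ρ ⟨f, hFH hf⟩ = 1 := mem_bot.mp (hbot (mem_map_of_mem ρ hf))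
      rw [← MonoidHom.mem_ker, QuotientGroup.ker_mk'] at this
      exact hSMbot f this.2 (hFM hf)
    intro m hm e
    have : m ∈ F := ⟨hm, mem_centralizer_singleton_iff.mpr e⟩
    rwa [hFbot, mem_bot] at this
  -- solvability
  have : Group.IsSolvable Mg := inferInstance
  have : Group.IsSolvable (S : Subgroup D) := CfsgLib.Solvable.isSolvable_of_isPGroup S.2
  let θ : (S : Subgroup D) →* D ⧸ Mg.subgroupOf D :=
    (QuotientGroup.mk' (Mg.subgroupOf D)).comp (S : Subgroup D).subtype
  have hθ : Function.Surjective θ := fun x => by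
    obtain ⟨x, rfl⟩ := QuotientGroup.mk_surjective x
    obtain ⟨_, ⟨s, hs, rfl⟩, m, hm, e⟩ := hdec x x.2
    refine ⟨⟨s, hs⟩, QuotientGroup.eq.mpr ?_⟩
    rw [mem_subgroupOf]
    have : (((s⁻¹ * x : D)) : G) = m := by
      rw [Subgroup.coe_mul, Subgroup.coe_inv, ← e, subtype_apply, inv_mul_cancel_left]
    exact this ▸ hm
  have hDsol : Group.IsSolvable D := CfsgLib.Solvable.isSolvable_of_normal (Mg.subgroupOf D)
    (Group.isSolvable_of_surjective (f := ((subgroupOfEquivOfLe hMD).symm : Mg →* Mg.subgroupOf D))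
      (MulEquiv.surjective _))
    (Group.isSolvable_of_surjective hθ)
  refine CfsgLib.Solvable.isSolvable_of_normal D hDsol (Group.isSolvable_of_comm fun a b => ?_)
  obtain ⟨a, rfl⟩ := QuotientGroup.mk_surjective a
  obtain ⟨b, rfl⟩ := QuotientGroup.mk_surjective b
  rw [← commutatorElement_eq_one_iff_mul_comm, ← QuotientGroup.mk'_apply, ← QuotientGroup.mk'_apply,
    ← map_commutatorElement]
  exact (QuotientGroup.eq_one_iff _).mpr (hcommD a b)

/-- **Solvability.** -/
theorem isSolvable_of_single_class {G : Type u} [Group G] [Finite G] (K : Subgroup G) [K.Normal]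
    (hK : K ≤ commutator G) (g : G) (hg : g ∈ commutator G) (hgK : g ∉ K)
    (hclass : ∀ x ∈ commutator G, x ∉ K → IsConj g x)
    (hZ : ∀ z : G, (∀ y, ⁅z, y⁆ ∈ K) → z ∈ commutator G) : Group.IsSolvable G := by
  by_cases hc : ∀ y : G, ⁅y, g⁆ ∈ K
  · exact isSolvable_central K hK g hg hgK hclass hZ hc
  · exact isSolvable_noncentral K hK g hg hgK hclass hZ hc

end CfsgLib.OneNonVanish
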